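import Mathlib
import Groth.Prelude.Def_ThetaGrp
import Groth.Agent.PicAux.Sections
import Groth.Agent.PicAux.Pullback

/-!
Cartesian morphisms and scalars in the category of pairs (scheme, module).
-/

set_option autoImplicit false

universe u

open CategoryTheory CategoryTheory.Limits AlgebraicGeometry TopologicalSpace Opposite Groth.PicAux
open Pseudofunctor Bicategory

noncomputable section

namespace Groth.ThetaAlg

/-- Pairs of a scheme and a module. -/
abbrev MObj : Type (u + 1) := CoGrothendieck (ThetaGrp.modPF.{u})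

/-- The module of a pair. -/
abbrev modOf (P : MObj.{u}) : (P.base).Modules := P.fiber

variable {P Q R : MObj.{u}}

/-- The module part of a morphism of pairs. -/
abbrev fib (φ : P ⟶ Q) : modOf P ⟶ (Scheme.Modules.pullback φ.base).obj (modOf Q) := φ.fiber

theorem fib_comp (φ : P ⟶ Q) (ψ : Q ⟶ R) :
    fib (φ ≫ ψ) = fib φ ≫ (Scheme.Modules.pullback φ.base).map (fib ψ) ≫
      (Scheme.Modules.pullbackComp φ.base ψ.base).hom.app (modOf R) := rfl

theorem eq_of_fib {φ ψ : P ⟶ Q} (h : φ.base = ψ.base)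
    (hf : fib φ ≫ ((Scheme.Modules.pullbackCongr h).hom.app (modOf Q)) = fib ψ) : φ = ψ := by
  obtain ⟨b, f⟩ := φ
  obtain ⟨b', f'⟩ := ψ
  obtain rfl : b = b' := h
  have e : ∀ h' : b = b, (Scheme.Modules.pullbackCongr h').hom.app (modOf Q) = 𝟙 _ := fun h' => by
    simp [Scheme.Modules.pullbackCongr]
  rw [e] at hf
  have hff : f = f' := (Category.comp_id _).symm.trans hf
  rw [hff]

theorem ext_fib {φ ψ : P ⟶ Q} (h : φ.base = ψ.base) (hf : HEq (fib φ) (fib ψ)) : φ = ψ := by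
  obtain ⟨b, f⟩ := φ
  obtain ⟨b', f'⟩ := ψ
  obtain rfl : b = b' := h
  obtain rfl : f = f' := eq_of_heq hf
  rfl

/-- A morphism of pairs identifying the module with the inverse image. -/
class IsCart (φ : P ⟶ Q) : Prop where
  iso : IsIso (fib φ)

instance (φ : P ⟶ Q) [IsCart φ] : IsIso (fib φ) := IsCart.iso

instance isCart_comp (φ : P ⟶ Q) (ψ : Q ⟶ R) [IsCart φ] [IsCart ψ] : IsCart (φ ≫ ψ) :=
  ⟨by rw [fib_comp]; infer_instance⟩

theorem isIso_fib_id (P : MObj.{u}) : IsIso (fib (𝟙 P)) :=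
  inferInstanceAs (IsIso ((Scheme.Modules.pullbackId P.base).inv.app (modOf P)))

instance isCart_of_isIso (φ : P ⟶ Q) [IsIso φ] : IsCart φ := by
  have key : ∀ {A B : MObj.{u}} (χ : A ⟶ B) (ξ : B ⟶ A), IsIso (fib (χ ≫ ξ)) →
      IsSplitMono (fib χ) := fun {A B} χ ξ h => by
    rw [fib_comp] at h
    exact ⟨⟨((Scheme.Modules.pullback χ.base).map (fib ξ) ≫
      (Scheme.Modules.pullbackComp χ.base ξ.base).hom.app (modOf A)) ≫ @inv _ _ _ _ _ h, by
        rw [← Category.assoc]; exact @IsIso.hom_inv_id _ _ _ _ _ h⟩⟩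
  have h₁ : IsIso (fib (φ ≫ inv φ)) := (IsIso.hom_inv_id φ).symm ▸ isIso_fib_id P
  have h₂ : IsIso (fib (inv φ ≫ φ)) := (IsIso.inv_hom_id φ).symm ▸ isIso_fib_id Q
  haveI := key φ (inv φ) h₁
  haveI := key (inv φ) φ h₂
  rw [fib_comp] at h₁
  haveI hh : IsIso (fib φ ≫ (Scheme.Modules.pullback φ.base).map (fib (inv φ))) := by
    rw [← Category.assoc] at h₁
    exact @IsIso.of_isIso_comp_right _ _ _ _ _ _
      ((Scheme.Modules.pullbackComp φ.base (inv φ).base).hom.app (modOf P)) inferInstance h₁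
  haveI : IsSplitEpi ((Scheme.Modules.pullback φ.base).map (fib (inv φ))) :=
    ⟨⟨inv (fib φ ≫ (Scheme.Modules.pullback φ.base).map (fib (inv φ))) ≫ fib φ, by simp⟩⟩
  haveI : IsIso ((Scheme.Modules.pullback φ.base).map (fib (inv φ))) := isIso_of_mono_of_isSplitEpi _
  exact ⟨IsIso.of_isIso_comp_right (fib φ) ((Scheme.Modules.pullback φ.base).map (fib (inv φ)))⟩

/-- Morphisms into the source of a cartesian morphism. -/
theorem existsUnique_lift {W : MObj.{u}} (φ : W ⟶ Q) (π : P ⟶ Q) [IsCart π] (b : W.base ⟶ P.base)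
    (hb : b ≫ π.base = φ.base) : ∃! ψ : W ⟶ P, ψ.base = b ∧ ψ ≫ π = φ := by
  let g := fib φ ≫ (Scheme.Modules.pullbackCongr hb.symm).hom.app (modOf Q) ≫
      (Scheme.Modules.pullbackComp b π.base).inv.app (modOf Q) ≫ (Scheme.Modules.pullback b).map (inv (fib π))
  refine ⟨⟨b, g⟩, ⟨rfl, eq_of_fib hb ?_⟩, ?_⟩
  · rw [fib_comp]
    change (g ≫ (Scheme.Modules.pullback b).map (fib π) ≫
      (Scheme.Modules.pullbackComp b π.base).hom.app (modOf Q)) ≫ _ = _
    simp only [g, Category.assoc]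
    rw [← Functor.map_comp_assoc, IsIso.inv_hom_id, CategoryTheory.Functor.map_id, Category.id_comp,
      Iso.inv_hom_id_app_assoc]
    simp [Scheme.Modules.pullbackCongr]
  · rintro ψ ⟨h1, h2⟩
    subst h1
    subst h2
    refine ext_fib rfl (heq_of_eq ?_)
    change fib ψ = g
    have e : (Scheme.Modules.pullbackCongr hb.symm).hom.app (modOf Q) = 𝟙 _ := by
      simp [Scheme.Modules.pullbackCongr]
    simp only [g]
    rw [e, fib_comp]
    have e1 := IsIso.hom_inv_id (f := (Scheme.Modules.pullback ψ.base).map (fib π))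
    rw [Category.id_comp]
    simp only [Category.assoc, Iso.hom_inv_id_app_assoc, Functor.map_inv]
    rw [e1, Category.comp_id]

theorem cart_hom_ext {W : MObj.{u}} (π : P ⟶ Q) [IsCart π] {ψ ψ' : W ⟶ P} (hb : ψ.base = ψ'.base)
    (h : ψ ≫ π = ψ' ≫ π) : ψ = ψ' :=
  (existsUnique_lift (ψ ≫ π) π ψ.base rfl).unique ⟨rfl, rfl⟩ ⟨hb.symm, h.symm⟩

section Scalar

/-- Multiplication by a global function. -/
def smulEnd {X : Scheme.{u}} (M : X.Modules) (r : Γ(X, ⊤)) : M ⟶ M :=
  ⟨PresheafOfModules.homMk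
    { app := fun U => AddCommGrpCat.ofHom
        (AddMonoidHom.mk' (fun x : Γ(M, U.unop) => resX X (le_top : U.unop ≤ ⊤) r • x) (fun x y => smul_add _ x y))
      naturality := fun U V g => AddCommGrpCat.ext fun (x : Γ(M, U.unop)) => by
        change resX X (le_top : V.unop ≤ ⊤) r • res M g.unop.le x =
          res M g.unop.le (resX X (le_top : U.unop ≤ ⊤) r • x)
        rw [res_smul, resX_resX] }
    fun U (s : Γ(X, U.unop)) (x : Γ(M, U.unop)) => by
      change resX X (le_top : U.unop ≤ ⊤) r • s • x = s • resX X (le_top : U.unop ≤ ⊤) r • x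
      rw [smul_smul, smul_smul, mul_comm]⟩

@[simp]
theorem smulEnd_app {X : Scheme.{u}} (M : X.Modules) (r : Γ(X, ⊤)) (U : X.Opens) (x : Γ(M, U)) :
    (smulEnd M r).app U x = resX X (le_top : U ≤ ⊤) r • x := rfl

theorem smulEnd_comm {X : Scheme.{u}} {M N : X.Modules} (φ : M ⟶ N) (r : Γ(X, ⊤)) :
    smulEnd M r ≫ φ = φ ≫ smulEnd N r :=
  Scheme.Modules.hom_ext _ _ fun U => AddCommGrpCat.ext fun x => φ.app_smul _ x

theorem smulEnd_one {X : Scheme.{u}} (M : X.Modules) : smulEnd M 1 = 𝟙 M :=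
  Scheme.Modules.hom_ext _ _ fun U => AddCommGrpCat.ext fun x => by simp

theorem smulEnd_mul {X : Scheme.{u}} (M : X.Modules) (r s : Γ(X, ⊤)) :
    smulEnd M (r * s) = smulEnd M r ≫ smulEnd M s :=
  Scheme.Modules.hom_ext _ _ fun U => AddCommGrpCat.ext fun x => by
    change resX X (le_top : U ≤ ⊤) (r * s) • x = resX X (le_top : U ≤ ⊤) s • resX X (le_top : U ≤ ⊤) r • x
    rw [map_mul, mul_comm, mul_smul]

theorem resX_app {X Y : Scheme.{u}} (f : X ⟶ Y) {U V : Y.Opens} (h : V ≤ U) (r : Γ(Y, U)) :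
    f.app V (resX Y h r) = resX X (f.preimage_mono h) (f.app U r) :=
  congr(($(f.naturality (homOfLE h).op)).hom r)

theorem pullback_map_smulEnd {X Y : Scheme.{u}} (f : X ⟶ Y) (M : Y.Modules) (r : Γ(Y, ⊤)) :
    (Scheme.Modules.pullback f).map (smulEnd M r) = smulEnd _ (f.appTop r) := by
  apply ((Scheme.Modules.pullbackPushforwardAdjunction f).homEquiv _ _).injective
  rw [Adjunction.homEquiv_unit, Adjunction.homEquiv_unit]
  refine Scheme.Modules.hom_ext _ _ fun U => AddCommGrpCat.ext fun m => ?_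
  change ((Scheme.Modules.pullback f).map (smulEnd M r)).app (f ⁻¹ᵁ U) (pullSec f M m) =
    (smulEnd _ (f.appTop r)).app (f ⁻¹ᵁ U) (pullSec f M m)
  rw [pullSec_map, smulEnd_app, smulEnd_app, pullSec_smul, resX_app]
  rfl

/-- Multiply the module part of a morphism by a global function of the source. -/
def sc (r : Γ(P.base, ⊤)) (φ : P ⟶ Q) : P ⟶ Q := ⟨φ.base, smulEnd (modOf P) r ≫ fib φ⟩

@[simp]
theorem sc_base (r : Γ(P.base, ⊤)) (φ : P ⟶ Q) : (sc r φ).base = φ.base := rfl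

theorem fib_sc (r : Γ(P.base, ⊤)) (φ : P ⟶ Q) : fib (sc r φ) = smulEnd (modOf P) r ≫ fib φ := rfl

theorem sc_one (φ : P ⟶ Q) : sc 1 φ = φ := by
  refine ext_fib rfl (heq_of_eq ?_)
  rw [fib_sc, smulEnd_one]
  exact Category.id_comp _

theorem sc_sc (r s : Γ(P.base, ⊤)) (φ : P ⟶ Q) : sc r (sc s φ) = sc (r * s) φ := by
  refine ext_fib rfl (heq_of_eq ?_)
  rw [fib_sc, fib_sc, fib_sc, smulEnd_mul, Category.assoc]
  rfl

theorem sc_comp (r : Γ(P.base, ⊤)) (φ : P ⟶ Q) (ψ : Q ⟶ R) : sc r φ ≫ ψ = sc r (φ ≫ ψ) := by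
  refine ext_fib rfl (heq_of_eq ?_)
  rw [fib_sc, fib_comp, fib_comp, fib_sc]
  exact Category.assoc _ _ _

theorem comp_sc (φ : P ⟶ Q) (s : Γ(Q.base, ⊤)) (ψ : Q ⟶ R) :
    φ ≫ sc s ψ = sc (φ.base.appTop s) (φ ≫ ψ) := by
  refine ext_fib rfl (heq_of_eq ?_)
  rw [fib_sc, fib_comp, fib_comp]
  change fib φ ≫ (Scheme.Modules.pullback φ.base).map (smulEnd (modOf Q) s ≫ fib ψ) ≫
      (Scheme.Modules.pullbackComp φ.base ψ.base).hom.app (modOf R) = _
  rw [Functor.map_comp, pullback_map_smulEnd, Category.assoc, ← Category.assoc (fib φ), ← smulEnd_comm,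
    Category.assoc]

theorem end_invertible {X : Scheme.{u}} {M : X.Modules} (hM : PicF.IsInvertible M) :
    Function.Bijective (smulEnd M) := by
  obtain ⟨U, s, hU, -, hs⟩ := exists_gen_cover hM
  refine ⟨fun r r' h => ?_, fun e => ?_⟩
  · refine X.sheaf.eq_of_locally_eq' U ⊤ (fun i => homOfLE le_top) (hU.ge) r r' fun i => ?_
    refine (hs i).smul_inj le_rfl (r := resX X le_top r) (r' := resX X le_top r') ?_
    simp only [res_self]
    exact congr(($h).app (U i) (s i))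
  · choose c hc using fun i => (hs i).exists_coeff le_rfl (e.app (U i) (s i))
    simp only [res_self] at hc
    obtain ⟨r, hr, -⟩ := X.sheaf.existsUnique_gluing' U ⊤ (fun i => homOfLE le_top) (hU.ge) c fun i j => by
      refine ((hs i).smul_inj (inf_le_left : U i ⊓ U j ≤ U i) (r := resX X inf_le_left (c i))
        (r' := resX X inf_le_right (c j)) ?_)
      obtain ⟨a, ha⟩ := (hs j).exists_coeff (inf_le_right : U i ⊓ U j ≤ U j) (res M inf_le_left (s i))
      have h1 : e.app _ (res M (inf_le_left : U i ⊓ U j ≤ U i) (s i)) = a • e.app _ (res M inf_le_right (s j)) := by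
        rw [ha, Scheme.Modules.Hom.app_smul]
      rw [app_res, app_res, hc, hc, res_smul, res_smul, smul_comm, ← ha] at h1
      exact h1
    refine ⟨r, hom_ext_gen hU s hs fun i => ?_⟩
    rw [smulEnd_app, hc]
    exact congrArg (· • s i) (hr i)

theorem sc_injective (hP : PicF.IsInvertible (modOf P)) (φ : P ⟶ Q) [IsCart φ] {r r' : Γ(P.base, ⊤)}
    (h : sc r φ = sc r' φ) : r = r' := by
  have e := CoGrothendieck.Hom.congr h
  change fib (sc r φ) = _ at e
  simp only [fib_sc] at e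
  refine (end_invertible hP).1 ((cancel_mono (fib φ)).1 (e.trans ?_))
  simp

theorem exists_eq_sc (hP : PicF.IsInvertible (modOf P)) (φ ψ : P ⟶ Q) [IsCart φ] (hb : φ.base = ψ.base) :
    ∃ r, ψ = sc r φ := by
  obtain ⟨r, hr⟩ := (end_invertible hP).2
    (fib ψ ≫ (Scheme.Modules.pullbackCongr hb.symm).hom.app (modOf Q) ≫ inv (fib φ))
  refine ⟨r, eq_of_fib hb.symm ?_⟩
  rw [fib_sc]
  exact (((congrArg (· ≫ fib φ) hr).trans (by simp))).symm


end Scalar

end Groth.ThetaAlg
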