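import Mathlib
import Groth.Agent.ThetaAlg.Cart
import Groth.Agent.DescentBase.QCohHom
import Groth.Agent.PicAux.QCoh
import Groth.Agent.LocFree.Basic

/-!
Descent of morphisms of pairs along a faithfully flat cartesian arrow.
-/

set_option autoImplicit false
set_option backward.isDefEq.respectTransparency.types false

universe u

open CategoryTheory CategoryTheory.Limits AlgebraicGeometry TopologicalSpace Opposite Groth.DescentBase
open Pseudofunctor Bicategory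

noncomputable section

namespace Groth.ThetaAlg

theorem eq_of_fib_pullTo {X Y Z : Scheme.{u}} {W : X.Modules} {N : Z.Modules}
    (g : X ⟶ Y) (q : Y ⟶ Z) (c : X ⟶ Z) (e : g ≫ q = c) (u v : W ⟶ (Scheme.Modules.pullback g).obj
      ((Scheme.Modules.pullback q).obj N)) (h : u ≫ (pullTo g q c e N).hom = v ≫ (pullTo g q c e N).hom) :
    u = v := (cancel_mono _).1 h

theorem comm_aux {C : Type*} [Category C] {a b c d x y : C} (A : a ⟶ b) (p : b ⟶ d) (e : c ≅ d)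
    (q₁ : a ⟶ x) (q₂ : x ⟶ y) (B : y ⟶ c) (h : A ≫ p = q₁ ≫ q₂ ≫ B ≫ e.hom) :
    (A ≫ p ≫ e.inv) ≫ e.hom = ((q₁ ≫ q₂) ≫ B) ≫ e.hom := by
  simp only [Category.assoc, Iso.inv_hom_id, Category.comp_id, h]

theorem fib_eq_of_eq {W Q : MObj.{u}} {α β : W ⟶ Q} (hαβ : α = β) (e : β.base = α.base) :
    fib α = fib β ≫ (Scheme.Modules.pullbackCongr e).hom.app (modOf Q) := by
  subst hαβ; simp [Scheme.Modules.pullbackCongr]

variable {X Z : Scheme.{u}} (q : X ⟶ Z) [Flat q] [Surjective q] [QuasiCompact q]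

theorem singleton_mem : Presieve.ofArrows (fun _ : PUnit.{u + 1} => X) (fun _ => q) ∈
    Scheme.fpqcPrecoverage Z := by
  rw [Presieve.ofArrows_pUnit]
  exact q.singleton_mem_fpqcPrecoverage

/-- Descent for a morphism of quasi-coherent modules along one fpqc morphism. -/
theorem exists_desc_mod {M N : Z.Modules} (hN : N.IsQuasicoherent)
    (φ : (Scheme.Modules.pullback q).obj M ⟶ (Scheme.Modules.pullback q).obj N)
    (hφ : ∀ (Y : Scheme.{u}) (g₁ g₂ : Y ⟶ X) (e : g₁ ≫ q = g₂ ≫ q),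
      (Scheme.Modules.pullback g₁).map φ ≫ (pullTo g₁ q (g₁ ≫ q) rfl N).hom =
        (pullTo g₁ q (g₁ ≫ q) rfl M).hom ≫ (pullTo g₂ q (g₁ ≫ q) e.symm M).inv ≫
          (Scheme.Modules.pullback g₂).map φ ≫ (pullTo g₂ q (g₁ ≫ q) e.symm N).hom) :
    ∃ h : M ⟶ N, (Scheme.Modules.pullback q).map h = φ := by
  haveI := hN
  obtain ⟨h, hh⟩ := (toDescentData_map_bijective (singleton_mem q) M N).2
    { hom := fun _ => φ
      comm := fun Y c i₁ i₂ g₁ g₂ e₁ e₂ => by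
        subst e₁
        change (Scheme.Modules.pullback g₁).map φ ≫
            ((Desc.modPF.{u}.mapComp' q.op.toLoc g₁.op.toLoc (g₁ ≫ q).op.toLoc _).inv.toNatTrans.app N ≫
              (Desc.modPF.{u}.mapComp' q.op.toLoc g₂.op.toLoc (g₁ ≫ q).op.toLoc _).hom.toNatTrans.app N) =
          ((Desc.modPF.{u}.mapComp' q.op.toLoc g₁.op.toLoc (g₁ ≫ q).op.toLoc _).inv.toNatTrans.app M ≫
              (Desc.modPF.{u}.mapComp' q.op.toLoc g₂.op.toLoc (g₁ ≫ q).op.toLoc _).hom.toNatTrans.app M) ≫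
            (Scheme.Modules.pullback g₂).map φ
        rw [mapComp'_inv_eq_pullTo g₁ q _ rfl, mapComp'_hom_eq_pullTo g₂ q _ e₂,
          mapComp'_inv_eq_pullTo g₁ q _ rfl, mapComp'_hom_eq_pullTo g₂ q _ e₂]
        refine eq_of_fib_pullTo g₂ q (g₁ ≫ q) e₂ _ _ ?_
        exact comm_aux _ _ _ _ _ _ (hφ Y g₁ g₂ e₂.symm) }
  exact ⟨h, congrArg (fun D => D.hom PUnit.unit) hh⟩

theorem unique_desc_mod {M N : Z.Modules} (hN : N.IsQuasicoherent) {h h' : M ⟶ N}
    (e : (Scheme.Modules.pullback q).map h = (Scheme.Modules.pullback q).map h') : h = h' := by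
  haveI := hN
  exact (toDescentData_map_bijective (singleton_mem q) M N).1 (DescentData.hom_ext fun _ => e)

theorem fib_std {M : Z.Modules} {P : MObj.{u}} (g : P.base ⟶ X)
    (a : modOf P ⟶ (Scheme.Modules.pullback g).obj ((Scheme.Modules.pullback q).obj M)) :
    fib ((⟨g, a⟩ : P ⟶ (⟨X, (Scheme.Modules.pullback q).obj M⟩ : MObj.{u})) ≫
      (⟨q, 𝟙 _⟩ : (⟨X, (Scheme.Modules.pullback q).obj M⟩ : MObj.{u}) ⟶ (⟨Z, M⟩ : MObj.{u}))) =
      a ≫ (pullTo g q (g ≫ q) rfl M).hom := by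
  rw [fib_comp]
  change a ≫ (Scheme.Modules.pullback g).map (𝟙 _) ≫ (Scheme.Modules.pullbackComp g q).hom.app M = _
  simp [pullTo, Scheme.Modules.pullbackCongr]

variable {P Q Q' : MObj.{u}}

/-- A morphism out of the source of a faithfully flat cartesian arrow which is compatible with
every pair of arrows equalised by it descends. -/
theorem exists_desc (π : P ⟶ Q) [IsCart π] [Flat π.base] [Surjective π.base] [QuasiCompact π.base]
    (hQ' : PicF.IsInvertible (modOf Q')) (ψ : P ⟶ Q') (b : Q.base ⟶ Q'.base) (hb : ψ.base = π.base ≫ b)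
    (hψ : ∀ (W : MObj.{u}) (ρ₁ ρ₂ : W ⟶ P) [IsCart ρ₁] [IsCart ρ₂], ρ₁ ≫ π = ρ₂ ≫ π → ρ₁ ≫ ψ = ρ₂ ≫ ψ) :
    ∃ Φ : Q ⟶ Q', Φ.base = b ∧ π ≫ Φ = ψ := by
  let P0 : MObj.{u} := ⟨P.base, (Scheme.Modules.pullback π.base).obj (modOf Q)⟩
  let π0 : P0 ⟶ Q := ⟨π.base, 𝟙 _⟩
  haveI hπ0 : IsCart π0 := ⟨inferInstanceAs (IsIso (𝟙 ((Scheme.Modules.pullback π.base).obj (modOf Q))))⟩
  obtain ⟨ι, ⟨hιb, hι⟩, -⟩ := existsUnique_lift π0 π (𝟙 P.base) (Category.id_comp _).symm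
  haveI : IsCart (ι ≫ π) := hι.symm ▸ hπ0
  haveI hιc : IsCart ι := by
    have h1 : IsIso (fib (ι ≫ π)) := IsCart.iso
    rw [fib_comp] at h1
    exact ⟨IsIso.of_isIso_comp_right (fib ι) ((Scheme.Modules.pullback ι.base).map (fib π) ≫
      (Scheme.Modules.pullbackComp ι.base π.base).hom.app (modOf Q))⟩
  let N : Q.base.Modules := (Scheme.Modules.pullback b).obj (modOf Q')
  let χ : (⟨Q.base, N⟩ : MObj.{u}) ⟶ Q' := ⟨b, 𝟙 _⟩
  haveI : IsCart χ := ⟨inferInstanceAs (IsIso (𝟙 ((Scheme.Modules.pullback b).obj (modOf Q'))))⟩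
  have hN : N.IsQuasicoherent := PicAux.isQCoh_of_isInvertible
    (Groth.LocFree.isInvertible_iff_ofRank_one.2 (Groth.LocFree.isFinLocFreeOfRank_pullback b
      (Groth.LocFree.isInvertible_iff_ofRank_one.1 hQ')))
  have hb0 : (ι ≫ ψ).base = π.base ≫ b := by
    change ι.base ≫ ψ.base = _
    rw [hιb, hb]
    exact Category.id_comp _
  obtain ⟨ψN, ⟨hψNb, hψN⟩, -⟩ := existsUnique_lift (P := (⟨Q.base, N⟩ : MObj.{u})) (ι ≫ ψ) χ π.base hb0.symm
  obtain ⟨bN, φ⟩ := ψN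
  change bN = π.base at hψNb
  subst hψNb
  let ψ' : P0 ⟶ (⟨Q.base, N⟩ : MObj.{u}) := CoGrothendieck.Hom.mk π.base φ
  change ψ' ≫ χ = ι ≫ ψ at hψN
  let φ' : (Scheme.Modules.pullback π.base).obj (modOf Q) ⟶ (Scheme.Modules.pullback π.base).obj N := φ
  obtain ⟨h, hh⟩ := exists_desc_mod π.base hN φ' fun Y g₁ g₂ e => by
    let W : MObj.{u} := ⟨Y, (Scheme.Modules.pullback g₁).obj ((Scheme.Modules.pullback π.base).obj (modOf Q))⟩
    let u₂ : modOf W ⟶ (Scheme.Modules.pullback g₂).obj ((Scheme.Modules.pullback π.base).obj (modOf Q)) :=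
      (pullTo g₁ π.base (g₁ ≫ π.base) rfl (modOf Q)).hom ≫ (pullTo g₂ π.base (g₁ ≫ π.base) e.symm (modOf Q)).inv
    let ρ₁ : W ⟶ P0 := ⟨g₁, 𝟙 _⟩
    let ρ₂ : W ⟶ P0 := ⟨g₂, u₂⟩
    haveI : IsCart ρ₁ :=
      ⟨inferInstanceAs (IsIso (𝟙 ((Scheme.Modules.pullback g₁).obj ((Scheme.Modules.pullback π.base).obj (modOf Q)))))⟩
    haveI : IsCart ρ₂ := ⟨inferInstanceAs (IsIso u₂)⟩
    have cmp : ∀ (c : Y ⟶ Q.base) (R : Q.base.Modules) (e' : g₂ ≫ π.base = c),
        (pullTo g₂ π.base (g₂ ≫ π.base) rfl R).hom ≫ (Scheme.Modules.pullbackCongr e').hom.app R =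
          (pullTo g₂ π.base c e' R).hom := fun c R e' => by
      subst e'; simp [pullTo, Scheme.Modules.pullbackCongr]
    have h12 : (ρ₁ ≫ ι) ≫ π = (ρ₂ ≫ ι) ≫ π := by
      rw [Category.assoc, Category.assoc, hι]
      refine (eq_of_fib (φ := ρ₂ ≫ π0) (ψ := ρ₁ ≫ π0) e.symm ?_).symm
      change fib (ρ₂ ≫ π0) ≫ _ = fib (ρ₁ ≫ π0)
      rw [fib_std, fib_std]
      simp only [u₂, Category.assoc]
      rw [cmp]
      simp
      exact (Category.id_comp _).symm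
    have h2 : ρ₁ ≫ ψ' = ρ₂ ≫ ψ' := by
      refine cart_hom_ext χ e ?_
      rw [Category.assoc, Category.assoc, hψN, ← Category.assoc, ← Category.assoc]
      exact hψ W _ _ h12
    have h3 := fib_eq_of_eq h2 e.symm
    rw [fib_comp, fib_comp] at h3
    change (Scheme.Modules.pullback g₁).map φ' ≫ _ = _
    have p1 : (pullTo g₁ π.base (g₁ ≫ π.base) rfl N).hom =
        (Scheme.Modules.pullbackComp g₁ π.base).hom.app N := by
      simp [pullTo, Scheme.Modules.pullbackCongr]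
    have p2 : (pullTo g₂ π.base (g₁ ≫ π.base) e.symm N).hom =
        (Scheme.Modules.pullbackComp g₂ π.base).hom.app N ≫ (Scheme.Modules.pullbackCongr e.symm).hom.app N := rfl
    rw [p1, p2]
    refine (Category.id_comp _).symm.trans (h3.trans ?_)
    exact (Category.assoc _ _ _).trans ((congrArg (u₂ ≫ ·) (Category.assoc _ _ _)).trans (Category.assoc _ _ _))
  let Φ : Q ⟶ Q' := ⟨b, h⟩
  have hΦ : π0 ≫ Φ = ι ≫ ψ := by
    rw [← hψN]
    refine ext_fib rfl (heq_of_eq ?_)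
    rw [fib_comp, fib_comp]
    change 𝟙 _ ≫ (Scheme.Modules.pullback π.base).map h ≫ _ =
      φ' ≫ (Scheme.Modules.pullback π.base).map (𝟙 N) ≫ _
    rw [hh]
    simp [χ]
    rfl
  haveI : IsIso ι.base := hιb ▸ inferInstanceAs (IsIso (𝟙 P.base))
  haveI : IsIso ι := by
    obtain ⟨κ, ⟨hκb, hκ⟩, -⟩ := existsUnique_lift (𝟙 P) ι (inv ι.base) (IsIso.inv_hom_id _)
    refine ⟨κ, cart_hom_ext ι ?_ ?_, hκ⟩
    · change ι.base ≫ κ.base = 𝟙 _
      rw [hκb, IsIso.hom_inv_id]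
    · rw [Category.assoc, hκ, Category.comp_id, Category.id_comp]
  refine ⟨Φ, rfl, (cancel_epi ι).1 ?_⟩
  rw [← Category.assoc, hι, hΦ]

/-- Morphisms out of the target of a faithfully flat cartesian arrow are determined by their composites with it. -/
theorem eq_of_comp_eq (π : P ⟶ Q) [IsCart π] [Flat π.base] [Surjective π.base] [QuasiCompact π.base]
    (hQ' : PicF.IsInvertible (modOf Q')) {α β : Q ⟶ Q'} (hb : α.base = β.base) (h : π ≫ α = π ≫ β) : α = β := by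
  obtain ⟨b, a⟩ := α
  obtain ⟨b', a'⟩ := β
  change b = b' at hb
  subst hb
  have hN : ((Scheme.Modules.pullback b).obj (modOf Q')).IsQuasicoherent := PicAux.isQCoh_of_isInvertible
    (Groth.LocFree.isInvertible_iff_ofRank_one.2 (Groth.LocFree.isFinLocFreeOfRank_pullback b
      (Groth.LocFree.isInvertible_iff_ofRank_one.1 hQ')))
  have h1 := (fib_eq_of_eq h rfl).trans (by simp [Scheme.Modules.pullbackCongr] :
    _ = fib (π ≫ (CoGrothendieck.Hom.mk b a' : Q ⟶ Q')))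
  rw [fib_comp, fib_comp, cancel_epi, cancel_mono] at h1
  have h2 : a = a' := unique_desc_mod π.base hN h1
  subst h2
  rfl

end Groth.ThetaAlg
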