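import Mathlib
import Groth.Agent.ThetaAlg.Desc

/-!
Descent of morphisms of pairs along an fpqc family of cartesian arrows; gluing along open covers.
-/

set_option autoImplicit false
set_option backward.isDefEq.respectTransparency.types false

universe u

open CategoryTheory CategoryTheory.Limits AlgebraicGeometry TopologicalSpace Opposite Groth.DescentBase
open Pseudofunctor Bicategory

noncomputable section

namespace Groth.ThetaAlg

theorem isCart_of_comp' {P Q R : MObj.{u}} (φ : P ⟶ Q) (π : Q ⟶ R) [IsCart π] (h : IsCart (φ ≫ π)) :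
    IsCart φ := by
  have h1 : IsIso (fib (φ ≫ π)) := h.iso
  rw [fib_comp] at h1
  exact ⟨IsIso.of_isIso_comp_right (fib φ) ((Scheme.Modules.pullback φ.base).map (fib π) ≫
    (Scheme.Modules.pullbackComp φ.base π.base).hom.app (modOf R))⟩

theorem isIso_of_isCart' {P Q : MObj.{u}} (φ : P ⟶ Q) [IsCart φ] [IsIso φ.base] : IsIso φ := by
  obtain ⟨ψ, ⟨hb, hψ⟩, -⟩ := existsUnique_lift (𝟙 Q) φ (inv φ.base) (IsIso.inv_hom_id _)
  refine ⟨ψ, cart_hom_ext φ ?_ ?_, hψ⟩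
  · change φ.base ≫ ψ.base = 𝟙 _
    rw [hb, IsIso.hom_inv_id]
  · rw [Category.assoc, hψ, Category.comp_id, Category.id_comp]

theorem fib_std' {X Z : Scheme.{u}} (q : X ⟶ Z) {M : Z.Modules} {P : MObj.{u}} (g : P.base ⟶ X)
    (a : modOf P ⟶ (Scheme.Modules.pullback g).obj ((Scheme.Modules.pullback q).obj M)) :
    fib ((⟨g, a⟩ : P ⟶ (⟨X, (Scheme.Modules.pullback q).obj M⟩ : MObj.{u})) ≫
      (⟨q, 𝟙 _⟩ : (⟨X, (Scheme.Modules.pullback q).obj M⟩ : MObj.{u}) ⟶ (⟨Z, M⟩ : MObj.{u}))) =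
      a ≫ (pullTo g q (g ≫ q) rfl M).hom := by
  rw [fib_comp]
  change a ≫ (Scheme.Modules.pullback g).map (𝟙 _) ≫ (Scheme.Modules.pullbackComp g q).hom.app M = _
  simp [pullTo, Scheme.Modules.pullbackCongr]

/-- Descent for a morphism of quasi-coherent modules along an fpqc family. -/
theorem exists_desc_mod_fam {κ : Type u} {Z : Scheme.{u}} {X : κ → Scheme.{u}} (q : ∀ k, X k ⟶ Z)
    (hq : Presieve.ofArrows X q ∈ Scheme.fpqcPrecoverage Z) {M N : Z.Modules} (hN : N.IsQuasicoherent)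
    (φ : ∀ k, (Scheme.Modules.pullback (q k)).obj M ⟶ (Scheme.Modules.pullback (q k)).obj N)
    (hφ : ∀ (Y : Scheme.{u}) (i j : κ) (g₁ : Y ⟶ X i) (g₂ : Y ⟶ X j) (e : g₁ ≫ q i = g₂ ≫ q j),
      (Scheme.Modules.pullback g₁).map (φ i) ≫ (pullTo g₁ (q i) (g₁ ≫ q i) rfl N).hom =
        (pullTo g₁ (q i) (g₁ ≫ q i) rfl M).hom ≫ (pullTo g₂ (q j) (g₁ ≫ q i) e.symm M).inv ≫
          (Scheme.Modules.pullback g₂).map (φ j) ≫ (pullTo g₂ (q j) (g₁ ≫ q i) e.symm N).hom) :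
    ∃ h : M ⟶ N, ∀ k, (Scheme.Modules.pullback (q k)).map h = φ k := by
  haveI := hN
  obtain ⟨h, hh⟩ := (toDescentData_map_bijective hq M N).2
    { hom := φ
      comm := fun Y c i₁ i₂ g₁ g₂ e₁ e₂ => by
        subst e₁
        change (Scheme.Modules.pullback g₁).map (φ i₁) ≫
            ((Desc.modPF.{u}.mapComp' (q i₁).op.toLoc g₁.op.toLoc (g₁ ≫ q i₁).op.toLoc _).inv.toNatTrans.app N ≫
              (Desc.modPF.{u}.mapComp' (q i₂).op.toLoc g₂.op.toLoc (g₁ ≫ q i₁).op.toLoc _).hom.toNatTrans.app N) =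
          ((Desc.modPF.{u}.mapComp' (q i₁).op.toLoc g₁.op.toLoc (g₁ ≫ q i₁).op.toLoc _).inv.toNatTrans.app M ≫
              (Desc.modPF.{u}.mapComp' (q i₂).op.toLoc g₂.op.toLoc (g₁ ≫ q i₁).op.toLoc _).hom.toNatTrans.app M) ≫
            (Scheme.Modules.pullback g₂).map (φ i₂)
        rw [mapComp'_inv_eq_pullTo g₁ (q i₁) _ rfl, mapComp'_hom_eq_pullTo g₂ (q i₂) _ e₂,
          mapComp'_inv_eq_pullTo g₁ (q i₁) _ rfl, mapComp'_hom_eq_pullTo g₂ (q i₂) _ e₂]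
        refine eq_of_fib_pullTo g₂ (q i₂) (g₁ ≫ q i₁) e₂ _ _ ?_
        exact comm_aux _ _ _ _ _ _ (hφ Y i₁ i₂ g₁ g₂ e₂.symm) }
  exact ⟨h, fun k => congrArg (fun D => D.hom k) hh⟩

variable {κ : Type u} {P : κ → MObj.{u}} {Q Q' : MObj.{u}}

/-- Morphisms defined on the members of an fpqc family of cartesian arrows glue. -/
theorem exists_desc_fam (π : ∀ k, P k ⟶ Q) [∀ k, IsCart (π k)]
    (hq : Presieve.ofArrows (fun k => (P k).base) (fun k => (π k).base) ∈ Scheme.fpqcPrecoverage Q.base)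
    (hQ' : PicF.IsInvertible (modOf Q')) (ψ : ∀ k, P k ⟶ Q') (b : Q.base ⟶ Q'.base)
    (hb : ∀ k, (ψ k).base = (π k).base ≫ b)
    (hψ : ∀ (W : MObj.{u}) (i j : κ) (ρ₁ : W ⟶ P i) (ρ₂ : W ⟶ P j), ρ₁ ≫ π i = ρ₂ ≫ π j → ρ₁ ≫ ψ i = ρ₂ ≫ ψ j) :
    ∃ Φ : Q ⟶ Q', Φ.base = b ∧ ∀ k, π k ≫ Φ = ψ k := by
  let P0 : κ → MObj.{u} := fun k => ⟨(P k).base, (Scheme.Modules.pullback (π k).base).obj (modOf Q)⟩
  let π0 : ∀ k, P0 k ⟶ Q := fun k => ⟨(π k).base, 𝟙 _⟩
  choose ι hιb hι using fun k => (existsUnique_lift (π0 k) (π k) (𝟙 (P k).base) (Category.id_comp _).symm).exists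
  haveI hιc : ∀ k, IsCart (ι k) := fun k => isCart_of_comp' (ι k) (π k) ⟨by
    rw [hι k]; exact inferInstanceAs (IsIso (𝟙 ((Scheme.Modules.pullback (π k).base).obj (modOf Q))))⟩
  let N : Q.base.Modules := (Scheme.Modules.pullback b).obj (modOf Q')
  let χ : (⟨Q.base, N⟩ : MObj.{u}) ⟶ Q' := ⟨b, 𝟙 _⟩
  haveI : IsCart χ := ⟨inferInstanceAs (IsIso (𝟙 ((Scheme.Modules.pullback b).obj (modOf Q'))))⟩
  have hN : N.IsQuasicoherent := PicAux.isQCoh_of_isInvertible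
    (Groth.LocFree.isInvertible_iff_ofRank_one.2 (Groth.LocFree.isFinLocFreeOfRank_pullback b
      (Groth.LocFree.isInvertible_iff_ofRank_one.1 hQ')))
  have hb0 : ∀ k, (ι k ≫ ψ k).base = (π k).base ≫ b := fun k => by
    change (ι k).base ≫ (ψ k).base = _
    rw [hιb, hb]
    exact Category.id_comp _
  choose ψN hψNb hψN using fun k =>
    (existsUnique_lift (P := (⟨Q.base, N⟩ : MObj.{u})) (ι k ≫ ψ k) χ (π k).base (hb0 k).symm).exists
  let φ : ∀ k, (Scheme.Modules.pullback (π k).base).obj (modOf Q) ⟶ (Scheme.Modules.pullback (π k).base).obj N :=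
    fun k => fib (ψN k) ≫ (Scheme.Modules.pullbackCongr (hψNb k)).hom.app N
  have hψ' : ∀ k, (CoGrothendieck.Hom.mk (π k).base (φ k) : P0 k ⟶ (⟨Q.base, N⟩ : MObj.{u})) = ψN k :=
    fun k => (eq_of_fib (hψNb k) rfl).symm
  obtain ⟨h, hh⟩ := exists_desc_mod_fam (fun k => (π k).base) hq hN φ fun Y i j g₁ g₂ e => by
    let W : MObj.{u} := ⟨Y, (Scheme.Modules.pullback g₁).obj ((Scheme.Modules.pullback (π i).base).obj (modOf Q))⟩
    let u₂ : modOf W ⟶ (Scheme.Modules.pullback g₂).obj ((Scheme.Modules.pullback (π j).base).obj (modOf Q)) :=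
      (pullTo g₁ (π i).base (g₁ ≫ (π i).base) rfl (modOf Q)).hom ≫
        (pullTo g₂ (π j).base (g₁ ≫ (π i).base) e.symm (modOf Q)).inv
    let ρ₁ : W ⟶ P0 i := ⟨g₁, 𝟙 _⟩
    let ρ₂ : W ⟶ P0 j := ⟨g₂, u₂⟩
    have cmp : ∀ (c : Y ⟶ Q.base) (R : Q.base.Modules) (e' : g₂ ≫ (π j).base = c),
        (pullTo g₂ (π j).base (g₂ ≫ (π j).base) rfl R).hom ≫ (Scheme.Modules.pullbackCongr e').hom.app R =
          (pullTo g₂ (π j).base c e' R).hom := fun c R e' => by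
      subst e'; simp [pullTo, Scheme.Modules.pullbackCongr]
    have h12 : (ρ₁ ≫ ι i) ≫ π i = (ρ₂ ≫ ι j) ≫ π j := by
      rw [Category.assoc, Category.assoc, hι, hι]
      refine (eq_of_fib (φ := ρ₂ ≫ π0 j) (ψ := ρ₁ ≫ π0 i) e.symm ?_).symm
      change fib (ρ₂ ≫ π0 j) ≫ _ = fib (ρ₁ ≫ π0 i)
      rw [fib_std', fib_std']
      simp only [u₂, Category.assoc]
      rw [cmp]
      simp
      exact (Category.id_comp _).symm
    have h2 : ρ₁ ≫ (CoGrothendieck.Hom.mk (π i).base (φ i) : P0 i ⟶ (⟨Q.base, N⟩ : MObj.{u})) =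
        ρ₂ ≫ (CoGrothendieck.Hom.mk (π j).base (φ j) : P0 j ⟶ (⟨Q.base, N⟩ : MObj.{u})) := by
      refine cart_hom_ext χ e ?_
      rw [Category.assoc, Category.assoc, hψ', hψ', hψN, hψN, ← Category.assoc, ← Category.assoc]
      exact hψ W i j _ _ h12
    have h3 := fib_eq_of_eq h2 e.symm
    rw [fib_comp, fib_comp] at h3
    change (Scheme.Modules.pullback g₁).map (φ i) ≫ _ = _
    have p1 : (pullTo g₁ (π i).base (g₁ ≫ (π i).base) rfl N).hom =
        (Scheme.Modules.pullbackComp g₁ (π i).base).hom.app N := by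
      simp [pullTo, Scheme.Modules.pullbackCongr]
    have p2 : (pullTo g₂ (π j).base (g₁ ≫ (π i).base) e.symm N).hom =
        (Scheme.Modules.pullbackComp g₂ (π j).base).hom.app N ≫ (Scheme.Modules.pullbackCongr e.symm).hom.app N := rfl
    rw [p1, p2]
    refine (Category.id_comp _).symm.trans (h3.trans ?_)
    exact (Category.assoc _ _ _).trans ((congrArg (u₂ ≫ ·) (Category.assoc _ _ _)).trans (Category.assoc _ _ _))
  let Φ : Q ⟶ Q' := ⟨b, h⟩
  refine ⟨Φ, rfl, fun k => ?_⟩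
  have hΦ : π0 k ≫ Φ = ι k ≫ ψ k := by
    rw [← hψN, ← hψ']
    refine ext_fib rfl (heq_of_eq ?_)
    rw [fib_comp, fib_comp]
    change 𝟙 _ ≫ (Scheme.Modules.pullback (π k).base).map h ≫ _ =
      φ k ≫ (Scheme.Modules.pullback (π k).base).map (𝟙 N) ≫ _
    rw [hh]
    simp [χ]
    rfl
  haveI : IsIso (ι k).base := (hιb k).symm ▸ inferInstanceAs (IsIso (𝟙 (P k).base))
  haveI : IsIso (ι k) := isIso_of_isCart' (ι k)
  refine (cancel_epi (ι k)).1 ?_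
  rw [← Category.assoc, hι, hΦ]

/-- The inclusions of an open cover form an fpqc family, up to isomorphism of the sources. -/
theorem openCover_mem {X : Scheme.{u}} (𝒰 : X.OpenCover) :
    Presieve.ofArrows 𝒰.X 𝒰.f ∈ Scheme.fpqcPrecoverage X :=
  Scheme.zariskiPrecoverage_le_fpqcPrecoverage _ 𝒰.mem₀

end Groth.ThetaAlg
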