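import Mathlib
import Groth.Agent.ThetaAlg.Cart
import Groth.Agent.LocFree.Basic

/-!
Elementary algebra of theta groups of modules on group schemes.
-/

set_option autoImplicit false

universe u

open CategoryTheory CategoryTheory.Limits MonoidalCategory CartesianMonoidalCategory MonObj
open AlgebraicGeometry TopologicalSpace Opposite Groth.PicAux
open Pseudofunctor Bicategory ThetaGrp

noncomputable section

namespace Groth.ThetaAlg

theorem isInvertible_pullback {X Y : Scheme.{u}} (f : X ⟶ Y) {M : Y.Modules} (h : PicF.IsInvertible M) :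
    PicF.IsInvertible ((Scheme.Modules.pullback f).obj M) :=
  Groth.LocFree.isInvertible_iff_ofRank_one.2
    (Groth.LocFree.isFinLocFreeOfRank_pullback f (Groth.LocFree.isInvertible_iff_ofRank_one.1 h))

theorem isCart_of_comp {P Q R : MObj.{u}} (φ : P ⟶ Q) (π : Q ⟶ R) [IsCart π] (h : IsCart (φ ≫ π)) : IsCart φ := by
  have hh : IsIso (fib (φ ≫ π)) := h.iso
  rw [fib_comp] at hh
  exact ⟨IsIso.of_isIso_comp_right (fib φ) ((Scheme.Modules.pullback φ.base).map (fib π) ≫
    (Scheme.Modules.pullbackComp φ.base π.base).hom.app (modOf R))⟩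

theorem isIso_of_isCart {P Q : MObj.{u}} (φ : P ⟶ Q) [IsCart φ] [IsIso φ.base] : IsIso φ := by
  obtain ⟨ψ, ⟨hb, hψ⟩, -⟩ := existsUnique_lift (𝟙 Q) φ (inv φ.base) (IsIso.inv_hom_id _)
  refine ⟨ψ, cart_hom_ext φ ?_ ?_, hψ⟩
  · change φ.base ≫ ψ.base = 𝟙 _
    rw [hb, IsIso.hom_inv_id]
  · rw [Category.assoc, hψ, Category.comp_id, Category.id_comp]

variable {S : Scheme.{u}} {A : Over S} [GrpObj A] {L : A.left.Modules}

/-- The structure arrow of the object attached to a test scheme. -/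
def proj (A : Over S) [GrpObj A] (L : A.left.Modules) (T : Over S) :
    thetaObj A L T ⟶ (⟨A.left, L⟩ : MObj.{u}) where
  base := (fst A T).left
  fiber := 𝟙 _

instance isCart_proj (T : Over S) : IsCart (proj A L T) :=
  ⟨inferInstanceAs (IsIso (𝟙 ((Scheme.Modules.pullback (fst A T).left).obj L)))⟩

instance isCart_bcLift {T G : Over S} (g : T ⟶ G) : IsCart (bcLift A L g) :=
  ⟨by
    have : ∀ {X : Scheme.{u}} {M N P : X.Modules} (a : M ⟶ N) (b : N ⟶ P), IsIso a → IsIso b → IsIso (a ≫ b) :=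
      fun a b _ _ => inferInstance
    exact this _ _ ((Scheme.Modules.pullbackCongr _).app L).isIso_hom
      ((Scheme.Modules.pullbackComp (A ◁ g).left (fst A G).left).app L).isIso_inv⟩

theorem congr_comp_cancel {U V W : Scheme.{u}} (a : U ⟶ V) (b : V ⟶ W) (c : U ⟶ W) (e : c = a ≫ b)
    (h : a ≫ b = c) (M : W.Modules) :
    (((Scheme.Modules.pullbackCongr e).hom.app M ≫ (Scheme.Modules.pullbackComp a b).inv.app M) ≫
      (Scheme.Modules.pullback a).map (𝟙 _) ≫ (Scheme.Modules.pullbackComp a b).hom.app M) ≫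
        (Scheme.Modules.pullbackCongr h).hom.app M = 𝟙 _ := by
  simp [Scheme.Modules.pullbackCongr]

theorem bcLift_proj {T G : Over S} (g : T ⟶ G) : bcLift A L g ≫ proj A L G = proj A L T := by
  have hb : (A ◁ g).left ≫ (fst A G).left = (fst A T).left := by rw [← Over.comp_left, whiskerLeft_fst]
  exact eq_of_fib hb (congr_comp_cancel (A ◁ g).left (fst A G).left (fst A T).left hb.symm hb L)

theorem whisker_comp {T T' G : Over S} (g : T' ⟶ T) (h : T ⟶ G) :
    bcLift A L g ≫ bcLift A L h = bcLift A L (g ≫ h) := by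
  refine cart_hom_ext (proj A L G) ?_ (by rw [Category.assoc, bcLift_proj, bcLift_proj, bcLift_proj])
  change (A ◁ g).left ≫ (A ◁ h).left = (A ◁ (g ≫ h)).left
  rw [← Over.comp_left, ← MonoidalCategory.whiskerLeft_comp]

theorem transl_whisker {T G : Over S} (g : T ⟶ G) (x : G ⟶ A) :
    transl A (g ≫ x) ≫ (A ◁ g) = (A ◁ g) ≫ transl A x := by
  apply CartesianMonoidalCategory.hom_ext
  · simp [transl, comp_mul]
  · simp [transl]

theorem transl_injective {T : Over S} {x y : T ⟶ A} (h : (transl A x).left = (transl A y).left) : x = y := by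
  have h' : transl A x = transl A y := Over.OverMorphism.ext h
  simpa [transl, comp_mul] using congrArg (fun t => lift (1 : T ⟶ A) (𝟙 T) ≫ t ≫ fst A T) h'

theorem exists_isOverPt {T : Over S} (β : thetaPts A L T) : ∃ x : T ⟶ A, IsOverPt β x := β.2

theorem isOverPt_unique {T : Over S} {β : thetaPts A L T} {x y : T ⟶ A} (hx : IsOverPt β x) (hy : IsOverPt β y) :
    x = y :=
  transl_injective (hx.symm.trans hy)

theorem isOverPt_mul {T : Over S} {α β : thetaPts A L T} {x y : T ⟶ A} (hα : IsOverPt α x) (hβ : IsOverPt β y) :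
    IsOverPt (α * β) (y * x) := by
  unfold IsOverPt at *
  rw [Subgroup.coe_mul, Aut.Aut_mul_def, Iso.trans_hom, CoGrothendieck.categoryStruct_comp_base, hα, hβ,
    transl_mul, Over.comp_left]

theorem mul_hom {T : Over S} (α β : thetaPts A L T) : (α * β).1.hom = β.1.hom ≫ α.1.hom := rfl

theorem pts_ext {T : Over S} {α β : thetaPts A L T} (h : α.1.hom = β.1.hom) : α = β :=
  Subtype.ext (Iso.ext h)

theorem commute_iff_hom {T : Over S} (α β : thetaPts A L T) :
    α * β = β * α ↔ β.1.hom ≫ α.1.hom = α.1.hom ≫ β.1.hom :=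
  ⟨fun h => by rw [← mul_hom, ← mul_hom, h], fun h => pts_ext (by rw [mul_hom, mul_hom, h])⟩

/-- A cartesian endomorphism over a translation is a point of the theta group. -/
theorem exists_pt {T : Over S} (φ : thetaObj A L T ⟶ thetaObj A L T) [IsCart φ] (x : T ⟶ A)
    (h : φ.base = (transl A x).left) : ∃ β : thetaPts A L T, β.1.hom = φ ∧ IsOverPt β x := by
  haveI : IsIso φ.base := by
    rw [h]
    refine ⟨(transl A x⁻¹).left, ?_, ?_⟩ <;>
    rw [← Over.comp_left, ← transl_mul] <;> simp [transl_one]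
  haveI := isIso_of_isCart φ
  exact ⟨⟨asIso φ, x, h⟩, rfl, h⟩

theorem existsUnique_baseChange {T G : Over S} (g : T ⟶ G) (u : thetaPts A L G) :
    ∃! β : thetaPts A L T, ThetaGrp.IsBaseChange β g u := by
  obtain ⟨x, hx⟩ := exists_isOverPt u
  obtain ⟨ψ, ⟨hb, hψ⟩, -⟩ := existsUnique_lift (bcLift A L g ≫ u.1.hom) (bcLift A L g)
    (transl A (g ≫ x)).left (by
      change _ = (A ◁ g).left ≫ u.1.hom.base
      rw [hx]
      change (transl A (g ≫ x)).left ≫ (A ◁ g).left = _
      rw [← Over.comp_left, transl_whisker, Over.comp_left])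
  haveI : IsCart ψ := isCart_of_comp ψ (bcLift A L g) (hψ ▸ inferInstance)
  obtain ⟨β, hβ, hβx⟩ := exists_pt ψ (g ≫ x) hb
  refine ⟨β, (congrArg (· ≫ bcLift A L g) hβ).trans hψ, fun β' h' => pts_ext ?_⟩
  refine cart_hom_ext (bcLift A L g) ?_ (h'.trans ((congrArg (· ≫ bcLift A L g) hβ).trans hψ).symm)
  obtain ⟨x', hx'⟩ := exists_isOverPt β'
  have e : (transl A x').left ≫ (A ◁ g).left = (A ◁ g).left ≫ (transl A x).left := by
    rw [← hx', ← hx]
    exact congrArg CoGrothendieck.Hom.base h'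
  have e' : transl A x' ≫ (A ◁ g) = (A ◁ g) ≫ transl A x := Over.OverMorphism.ext e
  rw [← transl_whisker] at e'
  have e2 := congrArg (fun t => lift (1 : T ⟶ A) (𝟙 T) ≫ t ≫ fst A G) e'
  simp [transl, comp_mul] at e2
  rw [hx', hβ, hb, e2]

theorem isOverPt_baseChange {T G : Over S} {g : T ⟶ G} {u : thetaPts A L G} {β : thetaPts A L T}
    (h : ThetaGrp.IsBaseChange β g u) {x : G ⟶ A} (hx : IsOverPt u x) : IsOverPt β (g ≫ x) := by
  obtain ⟨x', hx'⟩ := exists_isOverPt β
  have e : (transl A x').left ≫ (A ◁ g).left = (A ◁ g).left ≫ (transl A x).left := by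
    rw [← hx', ← hx]
    exact congrArg CoGrothendieck.Hom.base h
  have e' : transl A x' ≫ (A ◁ g) = (A ◁ g) ≫ transl A x := Over.OverMorphism.ext e
  rw [← transl_whisker] at e'
  have e2 := congrArg (fun t => lift (1 : T ⟶ A) (𝟙 T) ≫ t ≫ fst A G) e'
  simp [transl, comp_mul] at e2
  exact e2 ▸ hx'

theorem isBaseChange_comp {T T' G : Over S} {g : T' ⟶ T} {h : T ⟶ G} {u : thetaPts A L G}
    {β : thetaPts A L T} {β' : thetaPts A L T'} (h₁ : ThetaGrp.IsBaseChange β' g β) (h₂ : ThetaGrp.IsBaseChange β h u) :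
    ThetaGrp.IsBaseChange β' (g ≫ h) u := by
  unfold ThetaGrp.IsBaseChange at *
  rw [← whisker_comp, ← Category.assoc, h₁, Category.assoc, h₂, Category.assoc]

theorem isBaseChange_mul {T G : Over S} {g : T ⟶ G} {u v : thetaPts A L G} {α β : thetaPts A L T}
    (hα : ThetaGrp.IsBaseChange α g u) (hβ : ThetaGrp.IsBaseChange β g v) : ThetaGrp.IsBaseChange (α * β) g (u * v) := by
  unfold ThetaGrp.IsBaseChange at *
  rw [mul_hom, mul_hom, Category.assoc, hα, ← Category.assoc, hβ, Category.assoc]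

/-- Functions on `A × T` all come from `T`. -/
def SndBij (A : Over S) : Prop := ∀ T : Over S, Function.Bijective (snd A T).left.appTop

theorem transl_appTop (hA : SndBij A) {T : Over S} (x : T ⟶ A) (r : Γ((A ⊗ T).left, ⊤)) :
    (transl A x).left.appTop r = r := by
  obtain ⟨s, rfl⟩ := (hA T).2 r
  rw [← CommRingCat.comp_apply, ← Scheme.Hom.comp_appTop, ← Over.comp_left, transl_snd]

theorem isInvertible_obj (hL : PicF.IsInvertible L) (T : Over S) : PicF.IsInvertible (modOf (thetaObj A L T)) :=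
  isInvertible_pullback _ hL

theorem sc_comp_sc (hA : SndBij A) {T : Over S} {P : MObj.{u}} (α : thetaPts A L T)
    (r s : Γ((A ⊗ T).left, ⊤)) (φ : thetaObj A L T ⟶ P) :
    sc r α.1.hom ≫ sc s φ = sc (r * s) (α.1.hom ≫ φ) := by
  obtain ⟨x, hx⟩ := exists_isOverPt α
  have hb : α.1.hom.base.appTop s = s := by rw [hx]; exact transl_appTop hA x s
  rw [sc_comp, comp_sc, sc_sc]
  congr 1
  exact congrArg (r * ·) hb

theorem commute_of_isOverPt (hA : SndBij A) (hL : PicF.IsInvertible L) {T : Over S} {α β α' β' : thetaPts A L T}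
    {x y : T ⟶ A} (hα : IsOverPt α x) (hβ : IsOverPt β y) (hα' : IsOverPt α' x) (hβ' : IsOverPt β' y)
    (h : α * β = β * α) : α' * β' = β' * α' := by
  rw [commute_iff_hom] at h ⊢
  obtain ⟨r, hr⟩ := exists_eq_sc (isInvertible_obj hL T) α.1.hom α'.1.hom (hα.trans hα'.symm)
  obtain ⟨s, hs⟩ := exists_eq_sc (isInvertible_obj hL T) β.1.hom β'.1.hom (hβ.trans hβ'.symm)
  rw [hr, hs, sc_comp_sc hA, sc_comp_sc hA, h, mul_comm]

theorem isOverPt_baseChange_eq {T : Over S} {α β : thetaPts A L T} {x : T ⟶ A} (hα : IsOverPt α x)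
    (h : α = β) : IsOverPt β x := h ▸ hα

/-- Morphisms out of the object of `T` agreeing on an open cover of `T` are equal. -/
theorem hom_ext_of_cover (hA : SndBij A) (hL : PicF.IsInvertible L) {T : Over S} {P : MObj.{u}} {κ : Type u}
    (U : κ → T.left.Opens) (hU : iSup U = ⊤) (φ ψ : thetaObj A L T ⟶ P) [IsCart φ] (hb : φ.base = ψ.base)
    (h : ∀ k, bcLift A L (Over.homMk (U k).ι rfl : Over.mk ((U k).ι ≫ T.hom) ⟶ T) ≫ φ =
      bcLift A L (Over.homMk (U k).ι rfl : Over.mk ((U k).ι ≫ T.hom) ⟶ T) ≫ ψ) : φ = ψ := by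
  obtain ⟨r, rfl⟩ := exists_eq_sc (isInvertible_obj hL T) φ ψ hb
  obtain ⟨s, rfl⟩ := (hA T).2 r
  suffices hs : s = 1 by subst hs; rw [map_one, sc_one]
  refine T.left.sheaf.eq_of_locally_eq' U ⊤ (fun k => homOfLE le_top) hU.ge s 1 fun k => ?_
  let g : Over.mk ((U k).ι ≫ T.hom) ⟶ T := Over.homMk (U k).ι rfl
  have e := h k
  rw [comp_sc] at e
  have e1 : (bcLift A L g).base.appTop ((snd A T).left.appTop s) = 1 :=
    sc_injective (isInvertible_obj hL _) (bcLift A L g ≫ φ) ((e.symm.trans (sc_one _).symm))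
  have e2 : (snd A (Over.mk ((U k).ι ≫ T.hom))).left.appTop (g.left.appTop s) = 1 := by
    rw [← e1]
    change ((g.left.appTop ≫ (snd A _).left.appTop) s) = ((snd A T).left.appTop ≫ (A ◁ g).left.appTop) s
    rw [← Scheme.Hom.comp_appTop, ← Scheme.Hom.comp_appTop, ← Over.comp_left, ← Over.comp_left, whiskerLeft_snd]
  have e3 : g.left.appTop s = 1 := (hA _).1 (e2.trans (map_one _).symm)
  have e4 : resX T.left (le_top : U k ≤ ⊤) s = resX T.left (le_top : U k ≤ ⊤) 1 := by
    have hinj : Function.Injective (U k).topIso.inv.hom :=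
      (ConcreteCategory.bijective_of_isIso (U k).topIso.inv).1
    refine hinj ?_
    have : ∀ t : Γ(T.left, ⊤), (U k).topIso.inv (resX T.left (le_top : U k ≤ ⊤) t) = (U k).ι.appTop t := fun t => by
      change (T.left.presheaf.map _ ≫ (U k).topIso.inv) t = _
      rw [Scheme.Opens.ι_appTop, Scheme.Opens.topIso_inv]
      exact congr(($((T.left.presheaf.map_comp _ _).symm)).hom t)
    rw [this, this, map_one]
    exact e3
  exact e4

theorem commute_of_cover [IsCommMonObj A] (hA : SndBij A) (hL : PicF.IsInvertible L) {T : Over S} (α β : thetaPts A L T)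
    {κ : Type u} (U : κ → T.left.Opens) (hU : iSup U = ⊤)
    (h : ∀ k, ∀ α' β' : thetaPts A L (Over.mk ((U k).ι ≫ T.hom)),
      ThetaGrp.IsBaseChange α' (Over.homMk (U k).ι rfl : Over.mk ((U k).ι ≫ T.hom) ⟶ T) α →
      ThetaGrp.IsBaseChange β' (Over.homMk (U k).ι rfl : Over.mk ((U k).ι ≫ T.hom) ⟶ T) β →
        α' * β' = β' * α') : α * β = β * α := by
  rw [commute_iff_hom]
  obtain ⟨x, hx⟩ := exists_isOverPt α
  obtain ⟨y, hy⟩ := exists_isOverPt β
  refine hom_ext_of_cover hA hL U hU _ _ ?_ fun k => ?_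
  · change β.1.hom.base ≫ α.1.hom.base = α.1.hom.base ≫ β.1.hom.base
    have h0 : y * x = x * y := mul_comm y x
    rw [hx, hy, ← Over.comp_left, ← Over.comp_left, ← transl_mul, ← transl_mul, h0]
  obtain ⟨α', hα', -⟩ := existsUnique_baseChange (Over.homMk (U k).ι rfl : Over.mk ((U k).ι ≫ T.hom) ⟶ T) α
  obtain ⟨β', hβ', -⟩ := existsUnique_baseChange (Over.homMk (U k).ι rfl : Over.mk ((U k).ι ≫ T.hom) ⟶ T) β
  have hc := (commute_iff_hom α' β').1 (h k α' β' hα' hβ')
  unfold ThetaGrp.IsBaseChange at hα' hβ'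
  rw [← Category.assoc, ← hβ', Category.assoc, ← hα', ← Category.assoc, hc, Category.assoc, hβ',
    ← Category.assoc, hα', Category.assoc]

end Groth.ThetaAlg
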