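import Mathlib
import Groth.Agent.ThetaAlg.Theta
import Groth.Agent.ThetaAlg.DescFam

/-!
Points of the theta group glue along open covers of the test scheme.
-/

set_option autoImplicit false

universe u

open CategoryTheory CategoryTheory.Limits MonoidalCategory CartesianMonoidalCategory MonObj
open AlgebraicGeometry TopologicalSpace ThetaGrp
open Pseudofunctor Bicategory

noncomputable section

namespace Groth.ThetaAlg

variable {S : Scheme.{u}} {A : Over S}

/-- An open subscheme of a test scheme, over the base. -/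
abbrev opOver (T : Over S) (U : T.left.Opens) : Over S := Over.mk (U.ι ≫ T.hom)

/-- Its inclusion. -/
abbrev opInc (T : Over S) (U : T.left.Opens) : opOver T U ⟶ T := Over.homMk U.ι rfl

theorem isPullback_whiskerLeft (A : Over S) {T T' : Over S} (g : T' ⟶ T) :
    IsPullback (A ◁ g).left (snd A T').left (snd A T).left g.left := by
  have s₂ : IsPullback (fst A T).left (snd A T).left A.hom T.hom := IsPullback.of_hasPullback A.hom T.hom
  have s₁ : IsPullback (fst A T').left (snd A T').left A.hom (g.left ≫ T.hom) := by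
    rw [Over.w]
    exact IsPullback.of_hasPullback A.hom T'.hom
  refine IsPullback.of_right ?_ ?_ s₂
  · rw [← Over.comp_left, whiskerLeft_fst]
    exact s₁
  · rw [← Over.comp_left, ← Over.comp_left, whiskerLeft_snd]

/-- The cover of a product induced by an open cover of the second factor. -/
theorem whiskerCover_mem (A T : Over S) {κ : Type u} (U : κ → T.left.Opens) (hU : iSup U = ⊤) :
    Presieve.ofArrows (fun k => (A ⊗ opOver T (U k)).left) (fun k => (A ◁ opInc T (U k)).left) ∈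
      Scheme.fpqcPrecoverage (A ⊗ T).left := by
  have hoi : ∀ k, IsOpenImmersion (A ◁ opInc T (U k)).left := fun k =>
    MorphismProperty.of_isPullback (isPullback_whiskerLeft A (opInc T (U k))).flip
      (inferInstanceAs (IsOpenImmersion (U k).ι))
  refine Scheme.zariskiPrecoverage_le_fpqcPrecoverage _ ?_
  rw [Scheme.ofArrows_mem_precoverage_iff]
  refine ⟨fun z => ?_, hoi⟩
  obtain ⟨k, hk⟩ := Opens.mem_iSup.1 (hU.symm ▸ trivial : (snd A T).left z ∈ iSup U)
  obtain ⟨w, hw, -⟩ := Scheme.exists_preimage_of_isPullback (isPullback_whiskerLeft A (opInc T (U k))) z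
    ⟨(snd A T).left z, hk⟩ rfl
  exact ⟨k, w, hw⟩

variable [GrpObj A] {L : A.left.Modules}

/-- Morphisms out of the objects of the members of an open cover glue. -/
theorem exists_glue_hom {T : Over S} {Q' : MObj.{u}} (hQ' : PicF.IsInvertible (modOf Q')) {κ : Type u}
    (U : κ → T.left.Opens) (hU : iSup U = ⊤) (b : (A ⊗ T).left ⟶ Q'.base)
    (ψ : ∀ k, thetaObj A L (opOver T (U k)) ⟶ Q') (hb : ∀ k, (ψ k).base = (A ◁ opInc T (U k)).left ≫ b)
    (hψ : ∀ (T' : Over S) (i j : κ) (p : T' ⟶ opOver T (U i)) (q : T' ⟶ opOver T (U j)),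
      p ≫ opInc T (U i) = q ≫ opInc T (U j) → bcLift A L p ≫ ψ i = bcLift A L q ≫ ψ j) :
    ∃ Φ : thetaObj A L T ⟶ Q', Φ.base = b ∧ ∀ k, bcLift A L (opInc T (U k)) ≫ Φ = ψ k := by
  refine exists_desc_fam (fun k => bcLift A L (opInc T (U k))) (whiskerCover_mem A T U hU) hQ' ψ b hb
    fun W i j ρ₁ ρ₂ e => ?_
  have eb : ρ₁.base ≫ (A ◁ opInc T (U i)).left = ρ₂.base ≫ (A ◁ opInc T (U j)).left :=
    congrArg CoGrothendieck.Hom.base e
  let Y : Over S := Over.mk (ρ₁.base ≫ (A ⊗ opOver T (U i)).hom)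
  let a₁ : Y ⟶ A ⊗ opOver T (U i) := Over.homMk ρ₁.base rfl
  let a₂ : Y ⟶ A ⊗ opOver T (U j) := Over.homMk ρ₂.base (by
    change ρ₂.base ≫ (A ⊗ opOver T (U j)).hom = ρ₁.base ≫ (A ⊗ opOver T (U i)).hom
    rw [← Over.w (A ◁ opInc T (U j)), ← Category.assoc, ← eb, Category.assoc, Over.w])
  have ea : a₁ ≫ (A ◁ opInc T (U i)) = a₂ ≫ (A ◁ opInc T (U j)) := Over.OverMorphism.ext eb
  have hfst : a₁ ≫ fst A _ = a₂ ≫ fst A _ := by
    have := congrArg (· ≫ fst A T) ea
    simpa [Category.assoc] using this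
  let p : Y ⟶ opOver T (U i) := a₁ ≫ snd A _
  let q : Y ⟶ opOver T (U j) := a₂ ≫ snd A _
  have hpq : p ≫ opInc T (U i) = q ≫ opInc T (U j) := by
    have := congrArg (· ≫ snd A T) ea
    simpa [Category.assoc, p, q] using this
  let σ : Y ⟶ A ⊗ Y := lift (a₁ ≫ fst A _) (𝟙 Y)
  have hσ₁ : σ ≫ (A ◁ p) = a₁ := by
    apply CartesianMonoidalCategory.hom_ext <;> simp [σ, p]
  have hσ₂ : σ ≫ (A ◁ q) = a₂ := by
    apply CartesianMonoidalCategory.hom_ext
    · simpa [σ] using hfst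
    · simp [σ, q]
  obtain ⟨κ', ⟨hκb, hκ⟩, -⟩ := existsUnique_lift (P := thetaObj A L Y) ρ₁ (bcLift A L p) σ.left
    (congrArg CommaMorphism.left hσ₁)
  have h2 : κ' ≫ bcLift A L q = ρ₂ := by
    refine cart_hom_ext (bcLift A L (opInc T (U j))) ?_ ?_
    · change κ'.base ≫ (A ◁ q).left = ρ₂.base
      rw [hκb]
      exact congrArg CommaMorphism.left hσ₂
    · rw [Category.assoc, whisker_comp, ← hpq, ← whisker_comp, ← Category.assoc, hκ]
      exact e
  rw [← hκ, ← h2, Category.assoc, Category.assoc, hψ Y i j p q hpq]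

/-- Points of the theta group over a point glue along an open cover. -/
theorem exists_glue_pt (hA : SndBij A) (hL : PicF.IsInvertible L) {T : Over S} {κ : Type u}
    (U : κ → T.left.Opens) (hU : iSup U = ⊤) (x : T ⟶ A) (β : ∀ k, thetaPts A L (opOver T (U k)))
    (hx : ∀ k, IsOverPt (β k) (opInc T (U k) ≫ x))
    (hβ : ∀ (T' : Over S) (i j : κ) (p : T' ⟶ opOver T (U i)) (q : T' ⟶ opOver T (U j)),
      p ≫ opInc T (U i) = q ≫ opInc T (U j) → ∀ a b, ThetaGrp.IsBaseChange a p (β i) →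
        ThetaGrp.IsBaseChange b q (β j) → a = b) :
    ∃ B : thetaPts A L T, IsOverPt B x ∧ ∀ k, ThetaGrp.IsBaseChange (β k) (opInc T (U k)) B := by
  have hb : ∀ (y : T ⟶ A) (γ' : ∀ k, thetaPts A L (opOver T (U k))), (∀ k, IsOverPt (γ' k) (opInc T (U k) ≫ y)) →
      ∀ k, ((γ' k).1.hom ≫ bcLift A L (opInc T (U k))).base = (A ◁ opInc T (U k)).left ≫ (transl A y).left := by
    intro y γ' hy k
    change (γ' k).1.hom.base ≫ (A ◁ opInc T (U k)).left = _
    rw [hy k, ← Over.comp_left, ← Over.comp_left, transl_whisker]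
  have hc : ∀ (γ' : ∀ k, thetaPts A L (opOver T (U k))),
      (∀ (T' : Over S) (i j : κ) (p : T' ⟶ opOver T (U i)) (q : T' ⟶ opOver T (U j)),
        p ≫ opInc T (U i) = q ≫ opInc T (U j) → ∀ a b, ThetaGrp.IsBaseChange a p (γ' i) →
          ThetaGrp.IsBaseChange b q (γ' j) → a = b) →
      ∀ (T' : Over S) (i j : κ) (p : T' ⟶ opOver T (U i)) (q : T' ⟶ opOver T (U j)),
        p ≫ opInc T (U i) = q ≫ opInc T (U j) →
          bcLift A L p ≫ (γ' i).1.hom ≫ bcLift A L (opInc T (U i)) =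
            bcLift A L q ≫ (γ' j).1.hom ≫ bcLift A L (opInc T (U j)) := by
    intro γ' h T' i j p q hpq
    obtain ⟨a, ha, -⟩ := existsUnique_baseChange p (γ' i)
    obtain ⟨b, hb', -⟩ := existsUnique_baseChange q (γ' j)
    have hab := h T' i j p q hpq a b ha hb'
    unfold ThetaGrp.IsBaseChange at ha hb'
    rw [← Category.assoc, ← ha, ← Category.assoc (bcLift A L q), ← hb', hab, Category.assoc, Category.assoc,
      whisker_comp, whisker_comp, hpq]
  have hinvx : ∀ k, IsOverPt (β k)⁻¹ (opInc T (U k) ≫ x⁻¹) := fun k => by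
    obtain ⟨y, hy⟩ := exists_isOverPt (β k)⁻¹
    have h1 := isOverPt_mul (hx k) hy
    rw [mul_inv_cancel] at h1
    have h3 : IsOverPt (1 : thetaPts A L (opOver T (U k))) (1 : opOver T (U k) ⟶ A) := by
      unfold IsOverPt
      rw [transl_one]
      rfl
    have h2 := eq_inv_of_mul_eq_one_left (isOverPt_unique h1 h3)
    rw [GrpObj.comp_inv]
    exact h2 ▸ hy
  have hinv : ∀ (T' : Over S) (i j : κ) (p : T' ⟶ opOver T (U i)) (q : T' ⟶ opOver T (U j)),
      p ≫ opInc T (U i) = q ≫ opInc T (U j) → ∀ a b, ThetaGrp.IsBaseChange a p (β i)⁻¹ →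
        ThetaGrp.IsBaseChange b q (β j)⁻¹ → a = b := by
    intro T' i j p q hpq a b ha hb'
    obtain ⟨a', ha', -⟩ := existsUnique_baseChange p (β i)
    obtain ⟨b', hb'', -⟩ := existsUnique_baseChange q (β j)
    have key : ∀ {X : Over S} (r : T' ⟶ X) (c : thetaPts A L X) (d e : thetaPts A L T'),
        ThetaGrp.IsBaseChange d r c⁻¹ → ThetaGrp.IsBaseChange e r c → d = e⁻¹ := by
      intro X r c d e hd he
      have h := isBaseChange_mul hd he
      rw [inv_mul_cancel] at h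
      exact eq_inv_of_mul_eq_one_left ((existsUnique_baseChange r (1 : thetaPts A L X)).unique h
        ((Category.id_comp _).trans (Category.comp_id _).symm))
    rw [key p (β i) a a' ha ha', key q (β j) b b' hb' hb'', hβ T' i j p q hpq a' b' ha' hb'']
  obtain ⟨Φ, hΦb, hΦ⟩ := exists_glue_hom (isInvertible_obj hL T) U hU (transl A x).left
    (fun k => (β k).1.hom ≫ bcLift A L (opInc T (U k))) (hb x β hx) (hc β hβ)
  obtain ⟨Ψ, hΨb, hΨ⟩ := exists_glue_hom (isInvertible_obj hL T) U hU (transl A x⁻¹).left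
    (fun k => (β k)⁻¹.1.hom ≫ bcLift A L (opInc T (U k))) (hb x⁻¹ (fun k => (β k)⁻¹) hinvx)
    (hc (fun k => (β k)⁻¹) hinv)
  haveI : IsIso Φ := by
    refine ⟨Ψ, (hom_ext_of_cover hA hL U hU (𝟙 _) (Φ ≫ Ψ) ?_ fun k => ?_).symm,
      (hom_ext_of_cover hA hL U hU (𝟙 _) (Ψ ≫ Φ) ?_ fun k => ?_).symm⟩
    · change 𝟙 _ = Φ.base ≫ Ψ.base
      rw [hΦb, hΨb, ← Over.comp_left, ← transl_mul, mul_inv_cancel, transl_one]
      rfl
    · change _ = bcLift A L (opInc T (U k)) ≫ Φ ≫ Ψ
      rw [Category.comp_id, ← Category.assoc, hΦ, Category.assoc, hΨ, ← Category.assoc]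
      change _ = ((β k).1.hom ≫ (β k).1.inv) ≫ _
      rw [Iso.hom_inv_id, Category.id_comp]
    · change 𝟙 _ = Ψ.base ≫ Φ.base
      rw [hΦb, hΨb, ← Over.comp_left, ← transl_mul, inv_mul_cancel, transl_one]
      rfl
    · change _ = bcLift A L (opInc T (U k)) ≫ Ψ ≫ Φ
      rw [Category.comp_id, ← Category.assoc, hΨ, Category.assoc, hΦ, ← Category.assoc]
      change _ = ((β k).1.inv ≫ (β k).1.hom) ≫ _
      rw [Iso.inv_hom_id, Category.id_comp]
  obtain ⟨B, hB, hBx⟩ := exists_pt Φ x hΦb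
  exact ⟨B, hBx, fun k => ((congrArg (bcLift A L (opInc T (U k)) ≫ ·) hB).trans (hΦ k)).symm⟩

end Groth.ThetaAlg
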