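import Mathlib
import Groth.Agent.DescentBase.QCohHom
import Groth.Agent.QCohMod.PullbackSections
import Groth.Agent.LocFree.Rank
import Groth.Agent.PP.BaseChange

/-!
Faithfully flat descent of finite local freeness of a given rank.
-/

set_option autoImplicit false
set_option backward.isDefEq.respectTransparency.types false

universe u

open CategoryTheory Limits AlgebraicGeometry TopologicalSpace Opposite TensorProduct

noncomputable section

namespace Groth.ThetaAlg.DescLF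

theorem faithfullyFlat_appLE {Z S : Scheme.{u}} [IsAffine Z] (c : Z ⟶ S) [Flat c] {U : S.Opens}
    (hU : IsAffineOpen U) (e : ⊤ ≤ c ⁻¹ᵁ U) (hs : ∀ x ∈ U, ∃ z, c z = x) :
    (c.appLE U ⊤ e).hom.FaithfullyFlat := by
  rw [RingHom.FaithfullyFlat.iff_flat_and_comap_surjective]
  refine ⟨HasRingHomProperty.appLE @Flat c inferInstance ⟨U, hU⟩ ⟨⊤, isAffineOpen_top Z⟩ e, fun p => ?_⟩
  have hpU : hU.fromSpec p ∈ U := by
    rw [← SetLike.mem_coe, ← hU.range_fromSpec]
    exact ⟨p, rfl⟩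
  obtain ⟨z, hz⟩ := hs _ hpU
  refine ⟨(isAffineOpen_top Z).primeIdealOf ⟨z, trivial⟩, ?_⟩
  rw [IsAffineOpen.comap_primeIdealOf_appLE (hU := hU) (hV := isAffineOpen_top Z)]
  refine hU.fromSpec.isOpenEmbedding.injective ?_
  rw [hU.fromSpec_primeIdealOf]
  exact hz

variable {X S : Scheme.{u}} (q : X ⟶ S) [Flat q] [Surjective q] [QuasiCompact q]

/-- One affine piece covering an affine open. -/
theorem exists_piece {U : S.Opens} (hU : IsAffineOpen U) : ∃ (Z : Scheme.{u}) (a : Z ⟶ X),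
    IsAffine Z ∧ Flat (a ≫ q) ∧ ⊤ ≤ (a ≫ q) ⁻¹ᵁ U ∧ ∀ x ∈ U, ∃ z, (a ≫ q) z = x := by
  have hf : Presieve.ofArrows (fun _ : PUnit.{u + 1} => X) (fun _ => q) ∈ Scheme.fpqcPrecoverage S := by
    rw [Presieve.ofArrows_pUnit]
    exact q.singleton_mem_fpqcPrecoverage
  obtain ⟨K, _, Z, p, a, _, hflat, ha, hsurj⟩ := Groth.DescentBase.exists_pieces _ hf hU
  have hdesc : Sigma.desc a ≫ q = Sigma.desc fun k => a k ≫ q := by
    refine Sigma.hom_ext _ _ fun k => ?_
    simp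
  refine ⟨∐ Z, Sigma.desc a, inferInstance, ?_, fun z _ => ?_, fun x hx => ?_⟩
  · rw [hdesc]
    exact IsZariskiLocalAtSource.sigmaDesc (P := @Flat) hflat
  · obtain ⟨k, y, rfl⟩ := (sigmaOpenCover Z).exists_eq z
    change (Sigma.desc a ≫ q) (Sigma.ι Z k y) ∈ U
    rw [← Scheme.Hom.comp_apply, Sigma.ι_desc_assoc]
    exact ha k (Set.mem_univ y)
  · obtain ⟨k, y, hy⟩ := hsurj x hx
    refine ⟨Sigma.ι Z k y, ?_⟩
    rw [← Scheme.Hom.comp_apply, Sigma.ι_desc_assoc]
    exact hy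

/-- A quasi-coherent module is locally free of rank `n` if its inverse image along an fpqc morphism is. -/
theorem isFinLocFreeOfRank_of_pullback (N : S.Modules) [N.IsQuasicoherent] (n : ℕ)
    (h : FlatMod.IsFinLocFreeOfRank n ((Scheme.Modules.pullback q).obj N)) : FlatMod.IsFinLocFreeOfRank n N := by
  have key : ∀ x : S, ∃ U : S.Opens, IsAffineOpen U ∧ x ∈ U ∧ Module.Finite Γ(S, U) Γ(N, U) ∧
      Module.Projective Γ(S, U) Γ(N, U) ∧
      ∀ p : PrimeSpectrum Γ(S, U), Module.rankAtStalk (R := Γ(S, U)) Γ(N, U) p = n := by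
    intro x
    obtain ⟨U, hU, hxU⟩ := Groth.QCohMod.exists_affine_mem x
    obtain ⟨Z, a, _, _, e, hs⟩ := exists_piece q hU
    have hZ : FlatMod.IsFinLocFreeOfRank n ((Scheme.Modules.pullback (a ≫ q)).obj N) :=
      Groth.LocFree.isFinLocFreeOfRank_of_iso ((Scheme.Modules.pullbackComp a q).app N)
        (Groth.LocFree.isFinLocFreeOfRank_pullback a h)
    have hZf := Groth.LocFree.isFinLocFree_of_rank hZ
    obtain ⟨hfin, hproj⟩ := Groth.LocFree.finite_projective_sections hZf (isAffineOpen_top Z)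
    letI : Algebra Γ(S, U) Γ(Z, ⊤) := Groth.QCohMod.sectionsAlg (a ≫ q) e
    have hff := faithfullyFlat_appLE (a ≫ q) hU e hs
    haveI : Module.FaithfullyFlat Γ(S, U) Γ(Z, ⊤) := hff
    let E := Groth.QCohMod.pullSecEquiv (a ≫ q) N e hU (isAffineOpen_top Z)
    haveI : Module.Finite Γ(Z, ⊤) (Γ(Z, ⊤) ⊗[Γ(S, U)] Γ(N, U)) := Module.Finite.equiv E.symm
    haveI : Module.Projective Γ(Z, ⊤) (Γ(Z, ⊤) ⊗[Γ(S, U)] Γ(N, U)) := Module.Projective.of_equiv E.symm
    haveI hf' : Module.Finite Γ(S, U) Γ(N, U) :=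
      Module.Finite.of_finite_tensorProduct_of_faithfullyFlat Γ(Z, ⊤)
    haveI hp' : Module.Projective Γ(S, U) Γ(N, U) :=
      Groth.PP.projective_of_faithfullyFlat Γ(Z, ⊤) _
    refine ⟨U, hU, hxU, hf', hp', fun p => ?_⟩
    obtain ⟨p', rfl⟩ := PrimeSpectrum.comap_surjective_of_faithfullyFlat (A := Γ(S, U)) (B := Γ(Z, ⊤)) p
    haveI : Module.Flat Γ(S, U) Γ(N, U) := inferInstance
    rw [← Module.rankAtStalk_baseChange, Module.rankAtStalk_eq_of_equiv E]
    exact Groth.LocFree.rankAtStalk_sections_ofRank hZ (isAffineOpen_top Z) p'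
  have hfree : FlatMod.IsFinLocFree N := Groth.LocFree.isFinLocFree_of_affine_cover fun t => by
    obtain ⟨W, hW, ht, h₁, h₂, -⟩ := key t
    exact ⟨W, hW, ht, h₁, h₂⟩
  refine Groth.LocFree.isFinLocFreeOfRank_iff_finrank.2 ⟨hfree, fun t => ?_⟩
  obtain ⟨W, hW, ht, -, -, h₃⟩ := key t
  rw [← Groth.LocFree.rankAtStalk_sections hfree hW ht]
  exact h₃ _

end Groth.ThetaAlg.DescLF
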