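import Mathlib
import Groth.Agent.ThetaAlg.Theta
import Groth.Agent.GrpschAbsch.H0General
import Groth.Agent.GrpschAbsch.UnitalMul

/-!
Functions on the product of an abelian variety with a test scheme.
-/

set_option autoImplicit false

universe u

open CategoryTheory CategoryTheory.Limits MonoidalCategory CartesianMonoidalCategory MonObj
open AlgebraicGeometry

noncomputable section

namespace Groth.ThetaAlg

theorem sndBij_of_proper {k : Type u} [Field k] (A : Over (Spec (CommRingCat.of k))) [IsProper A.hom]
    [GeometricallyIntegral A.hom] : SndBij A := fun T => by
  haveI : Flat A.hom := inferInstance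
  haveI : LocallyOfFinitePresentation A.hom := inferInstance
  haveI : GeometricallyConnected A.hom :=
    Groth.GrpschAbsch.UnitalMul.geometricallyConnected_of_geometricallyIrreducible A.hom
  have sq : IsPullback (fst A T).left (snd A T).left A.hom T.hom := IsPullback.of_hasPullback A.hom T.hom
  haveI : IsProper (snd A T).left := MorphismProperty.of_isPullback sq ‹_›
  haveI : Flat (snd A T).left := MorphismProperty.of_isPullback sq ‹_›
  haveI : LocallyOfFinitePresentation (snd A T).left := MorphismProperty.of_isPullback sq ‹_›
  haveI : GeometricallyReduced (snd A T).left := MorphismProperty.of_isPullback sq inferInstance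
  haveI : GeometricallyConnected (snd A T).left := MorphismProperty.of_isPullback sq ‹_›
  exact Groth.GrpschAbsch.H0General.appTop_bijective (snd A T).left

end Groth.ThetaAlg
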