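import Mathlib
import Groth.Agent.ThetaAlg.SndBij
import Groth.Agent.Abvar.Mumford
import Groth.Agent.PicAux.PushPull

/-!
Points of the theta group over a point of an abelian variety, locally on the test scheme.
-/

set_option autoImplicit false

universe u

open CategoryTheory CategoryTheory.Limits MonoidalCategory CartesianMonoidalCategory MonObj
open AlgebraicGeometry TopologicalSpace Groth.Abvar Groth.Abvar.PicCalc ThetaGrp

noncomputable section

namespace Groth.ThetaAlg

variable {k : Type u} [Field k] {A : Over (Spec (CommRingCat.of k))} [GrpObj A]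

theorem app_snd_bijective [IsProper A.hom] [GeometricallyIntegral A.hom] (T : Over (Spec (CommRingCat.of k)))
    (U : T.left.Opens) : Function.Bijective ((snd A T).left.app U) := by
  haveI : Flat A.hom := inferInstance
  haveI : LocallyOfFinitePresentation A.hom := inferInstance
  haveI : GeometricallyConnected A.hom :=
    Groth.GrpschAbsch.UnitalMul.geometricallyConnected_of_geometricallyIrreducible A.hom
  have sq : IsPullback (fst A T).left (snd A T).left A.hom T.hom := IsPullback.of_hasPullback A.hom T.hom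
  haveI : IsProper (snd A T).left := MorphismProperty.of_isPullback sq ‹_›
  haveI : Flat (snd A T).left := MorphismProperty.of_isPullback sq ‹_›
  haveI : LocallyOfFinitePresentation (snd A T).left := MorphismProperty.of_isPullback sq ‹_›
  haveI : GeometricallyReduced (snd A T).left := MorphismProperty.of_isPullback sq inferInstance
  haveI : GeometricallyConnected (snd A T).left := MorphismProperty.of_isPullback sq ‹_›
  exact Groth.GrpschAbsch.H0General.app_bijective (snd A T).left U

/-- The inclusion of an open subscheme of a test scheme. -/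
abbrev opIn (T : Over (Spec (CommRingCat.of k))) (U : T.left.Opens) : Over.mk (U.ι ≫ T.hom) ⟶ T :=
  Over.homMk U.ι rfl

/-- A class on `A × T` trivial locally over `T` comes from `T`. -/
theorem exists_eq_opull_snd [IsProper A.hom] [GeometricallyIntegral A.hom] {T : Over (Spec (CommRingCat.of k))}
    (q : PicLoc.PicSet (A ⊗ T).left) {κ : Type u} (U : κ → T.left.Opens) (hU : iSup U = ⊤)
    (h : ∀ i, opull (A ◁ opIn T (U i)) q = 1) : ∃ m, q = opull (snd A T) m := by
  obtain ⟨Q, hQ, rfl⟩ := PicGrp.exists_eq_cls q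
  have key : ∀ i, ∃ e : Γ(Q, (snd A T).left ⁻¹ᵁ U i), PicAux.Gen Q ((snd A T).left ⁻¹ᵁ U i) e := by
    intro i
    refine PicAux.exists_gen_of_pullback_iso ?_
    set g := opIn T (U i)
    set W := (snd A T).left ⁻¹ᵁ U i
    have sq0 : IsPullback (A ◁ g).left (snd A (Over.mk ((U i).ι ≫ T.hom))).left (snd A T).left g.left := by
      have s₂ : IsPullback (fst A T).left (snd A T).left A.hom T.hom := IsPullback.of_hasPullback A.hom T.hom
      have s₁ : IsPullback (fst A (Over.mk ((U i).ι ≫ T.hom))).left (snd A (Over.mk ((U i).ι ≫ T.hom))).left A.hom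
          (g.left ≫ T.hom) := IsPullback.of_hasPullback A.hom ((U i).ι ≫ T.hom)
      refine IsPullback.of_right ?_ ?_ s₂
      · rw [← Over.comp_left, whiskerLeft_fst]
        exact s₁
      · rw [← Over.comp_left, ← Over.comp_left, whiskerLeft_snd]
    have hle : IsOpenImmersion (A ◁ g).left :=
      MorphismProperty.of_isPullback sq0.flip (inferInstanceAs (IsOpenImmersion (U i).ι))
    have hr : Set.range (A ◁ g).left = Set.range W.ι := by
      rw [← sq0.isoPullback_hom_fst]
      have hsurj : Function.Surjective sq0.isoPullback.hom := (Scheme.homeoOfIso sq0.isoPullback).surjective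
      rw [Scheme.Hom.comp_base, TopCat.coe_comp, hsurj.range_comp, Scheme.Pullback.range_fst]
      exact (congrArg _ (Scheme.Opens.range_ι (U i))).trans (Scheme.Opens.range_ι W).symm
    have he : (IsOpenImmersion.isoOfRangeEq (A ◁ g).left W.ι hr).inv ≫ (A ◁ g).left = W.ι :=
      IsOpenImmersion.isoOfRangeEq_inv_fac _ _ _
    rw [nonempty_iso_structure_iff (PicLoc.isInvertible_pullback _ hQ), ← pull_cls _ hQ, ← he, pull_comp]
    exact (congrArg _ (h i)).trans (map_one _)
  choose e he using key
  obtain ⟨hM, hiso⟩ := PicAux.pushforward_invertible_and_counit (snd A T).left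
    (app_snd_bijective T) U hU e he
  refine ⟨cls hM, ?_⟩
  rw [opull, pull_cls, ← nonempty_iso_iff hQ]
  exact ⟨(asIso ((Scheme.Modules.pullbackPushforwardAdjunction (snd A T).left).counit.app Q)).symm⟩

theorem exists_pt_iff {L : A.left.Modules} (hL : PicF.IsInvertible L) {T : Over (Spec (CommRingCat.of k))}
    (x : T ⟶ A) :
    (∃ β : thetaPts A L T, IsOverPt β x) ↔
      opull (fst A T * (snd A T ≫ x)) (cls hL) = opull (fst A T) (cls hL) := by
  have hp := PicLoc.isInvertible_pullback (fst A T).left hL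
  have e : opull (fst A T * (snd A T ≫ x)) (cls hL) = cls (PicLoc.isInvertible_pullback (transl A x).left hp) := by
    rw [← pull_cls _ hp, ← pull_cls _ hL, ← transl_fst, opull, Over.comp_left, pull_comp]
  rw [e, opull, pull_cls, ← nonempty_iso_iff]
  constructor
  · rintro ⟨β, hβ⟩
    have hb : β.1.hom.base = (transl A x).left := hβ
    haveI : IsIso (fib β.1.hom) := (isCart_of_isIso β.1.hom).iso
    exact ⟨(asIso (fib β.1.hom) ≪≫ (Scheme.Modules.pullbackCongr hb).app _).symm⟩
  · rintro ⟨i⟩
    let φ : thetaObj A L T ⟶ thetaObj A L T := { base := (transl A x).left, fiber := i.inv }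
    haveI : IsCart φ := ⟨inferInstanceAs (IsIso i.inv)⟩
    obtain ⟨β, -, hβ⟩ := exists_pt φ x rfl
    exact ⟨β, hβ⟩

theorem opull_restrict {T T' : Over (Spec (CommRingCat.of k))} (g : T' ⟶ T) (x : T ⟶ A) (c : PicLoc.PicSet A.left) :
    opull (A ◁ g) (opull (fst A T * (snd A T ≫ x)) c) = opull (fst A T' * (snd A T' ≫ g ≫ x)) c ∧
      opull (A ◁ g) (opull (fst A T) c) = opull (fst A T') c := by
  rw [← opull_comp, ← opull_comp, MonObj.comp_mul, whiskerLeft_fst, whiskerLeft_snd_assoc]
  exact ⟨rfl, rfl⟩

theorem locally_exists_pt_of_additive {L : A.left.Modules} (hL : PicF.IsInvertible L)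
    {T : Over (Spec (CommRingCat.of k))} {x : T ⟶ A} (h : Mumford.Additive' (cls hL) x) (t : T.left) :
    ∃ U : T.left.Opens, t ∈ U ∧ ∃ β : thetaPts A L (Over.mk (U.ι ≫ T.hom)), IsOverPt β (opIn T U ≫ x) := by
  have hxL := PicLoc.isInvertible_pullback x.left hL
  obtain ⟨U, htU, ⟨e⟩⟩ := hxL t
  refine ⟨U, htU, (exists_pt_iff hL _).2 ?_⟩
  have h1 : opull (opIn T U) (opull x (cls hL)) = 1 := by
    rw [opull, opull, pull_cls, pull_cls, ← nonempty_iso_structure_iff]
    exact ⟨((Scheme.Modules.restrictFunctorIsoPullback U.ι).app _).symm ≪≫ e⟩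
  have h2 := congrArg (opull (A ◁ opIn T U)) h
  rw [map_mul, (opull_restrict _ _ _).1, (opull_restrict _ x _).2, ← opull_comp, whiskerLeft_snd_assoc,
    opull_comp (snd A _), opull_comp (opIn T U), h1, map_one, _root_.mul_one] at h2
  exact h2

theorem additive_of_locally_exists_pt [IsProper A.hom] [GeometricallyIntegral A.hom] {L : A.left.Modules}
    (hL : PicF.IsInvertible L) {T : Over (Spec (CommRingCat.of k))} {x : T ⟶ A}
    (h : ∀ t : T.left, ∃ U : T.left.Opens, t ∈ U ∧
      ∃ β : thetaPts A L (Over.mk (U.ι ≫ T.hom)), IsOverPt β (opIn T U ≫ x)) :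
    Mumford.Additive' (cls hL) x := by
  choose U hU hβ using h
  obtain ⟨m, hm⟩ := exists_eq_opull_snd
    (opull (fst A T * (snd A T ≫ x)) (cls hL) * (opull (fst A T) (cls hL))⁻¹) U
    (eq_top_iff.2 fun t _ => Opens.mem_iSup.2 ⟨t, hU t⟩) fun t => by
      rw [map_mul, map_inv, (opull_restrict _ _ _).1, (opull_restrict _ x _).2,
        (exists_pt_iff hL _).1 (hβ t), mul_inv_cancel]
  have h0 : opull (snd A T) (m * (opull x (cls hL))⁻¹) * opull (fst A T) (cls hL) *
      opull (snd A T ≫ x) (cls hL) = opull (fst A T * (snd A T ≫ x)) (cls hL) := by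
    rw [map_mul, map_inv, ← opull_comp, ← hm]
    rw [mul_right_comm _ (opull (snd A T ≫ x) (cls hL))⁻¹, inv_mul_cancel_right, inv_mul_cancel_right]
  have h1 := Mumford.mumford_eq_one h0
  rw [h1, map_one, _root_.one_mul] at h0
  exact h0.symm

theorem factors_iff_locally [IsProper A.hom] [GeometricallyIntegral A.hom] {L : A.left.Modules}
    (hL : PicF.IsInvertible L) {K : Over (Spec (CommRingCat.of k))} {iK : K ⟶ A} (hK : IsKL A L iK)
    {T : Over (Spec (CommRingCat.of k))} (x : T ⟶ A) :
    (∃ y : T ⟶ K, y ≫ iK = x) ↔ ∀ t : T.left, ∃ U : T.left.Opens, t ∈ U ∧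
      ∃ β : thetaPts A L (Over.mk (U.ι ≫ T.hom)), IsOverPt β (opIn T U ≫ x) := by
  rw [Mumford.additive'_iff L hL hK]
  exact ⟨locally_exists_pt_of_additive hL, additive_of_locally_exists_pt hL⟩

end Groth.ThetaAlg
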