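import Mathlib
import Groth.Agent.ThetaAlg.Theta

/-!
Theta groups and homomorphisms of group schemes.
-/

set_option autoImplicit false

universe u

open CategoryTheory CategoryTheory.Limits MonoidalCategory CartesianMonoidalCategory MonObj
open AlgebraicGeometry TopologicalSpace Opposite Groth.PicAux
open Pseudofunctor Bicategory ThetaGrp

noncomputable section

namespace Groth.ThetaAlg

variable {S : Scheme.{u}} {A B : Over S} [GrpObj A] [GrpObj B] {f : A ⟶ B} [IsMonHom f]
  {L : A.left.Modules} {M : B.left.Modules}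

/-- A cartesian arrow of modules over `f`. -/
structure OverArrow (f : A ⟶ B) (L : A.left.Modules) (M : B.left.Modules) where
  /-- the arrow -/
  arr : (⟨A.left, L⟩ : MObj.{u}) ⟶ ⟨B.left, M⟩
  base_eq : arr.base = f.left
  cart : IsCart arr

/-- The arrow of an inverse image. -/
def OverArrow.self (f : A ⟶ B) (M : B.left.Modules) : OverArrow f ((Scheme.Modules.pullback f.left).obj M) M where
  arr := { base := f.left, fiber := 𝟙 _ }
  base_eq := rfl
  cart := ⟨inferInstanceAs (IsIso (𝟙 ((Scheme.Modules.pullback f.left).obj M)))⟩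

/-- The arrow of a module isomorphic to an inverse image. -/
def OverArrow.ofIso (f : A ⟶ B) (e : (Scheme.Modules.pullback f.left).obj M ≅ L) : OverArrow f L M where
  arr := { base := f.left, fiber := e.inv }
  base_eq := rfl
  cart := ⟨inferInstanceAs (IsIso e.inv)⟩

variable (ρ : OverArrow f L M)

instance : IsCart ρ.arr := ρ.cart

theorem whiskerRight_proj (T : Over S) :
    (f ▷ T).left ≫ (fst B T).left = (fst A T).left ≫ f.left := by
  rw [← Over.comp_left, whiskerRight_fst, Over.comp_left]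

/-- The map of objects over a test scheme. -/
def arrowT (T : Over S) : thetaObj A L T ⟶ thetaObj B M T :=
  (existsUnique_lift (proj A L T ≫ ρ.arr) (proj B M T) (f ▷ T).left (by
    change _ = (fst A T).left ≫ ρ.arr.base
    rw [ρ.base_eq]
    exact whiskerRight_proj T)).choose

theorem arrowT_base (T : Over S) : (arrowT ρ T).base = (f ▷ T).left :=
  (existsUnique_lift (proj A L T ≫ ρ.arr) (proj B M T) (f ▷ T).left (by
    change _ = (fst A T).left ≫ ρ.arr.base
    rw [ρ.base_eq]
    exact whiskerRight_proj T)).choose_spec.1.1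

theorem arrowT_proj (T : Over S) : arrowT ρ T ≫ proj B M T = proj A L T ≫ ρ.arr :=
  (existsUnique_lift (proj A L T ≫ ρ.arr) (proj B M T) (f ▷ T).left (by
    change _ = (fst A T).left ≫ ρ.arr.base
    rw [ρ.base_eq]
    exact whiskerRight_proj T)).choose_spec.1.2

instance isCart_arrowT (T : Over S) : IsCart (arrowT ρ T) :=
  isCart_of_comp _ (proj B M T) (arrowT_proj ρ T ▸ inferInstance)

theorem arrowT_bc {T G : Over S} (g : T ⟶ G) :
    bcLift A L g ≫ arrowT ρ G = arrowT ρ T ≫ bcLift B M g := by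
  refine cart_hom_ext (proj B M G) ?_ ?_
  · change (A ◁ g).left ≫ (arrowT ρ G).base = (arrowT ρ T).base ≫ (B ◁ g).left
    rw [arrowT_base, arrowT_base, ← Over.comp_left, ← Over.comp_left, MonoidalCategory.whisker_exchange]
  · rw [Category.assoc, arrowT_proj, ← Category.assoc, bcLift_proj, Category.assoc, bcLift_proj, arrowT_proj]

theorem transl_whiskerRight {T : Over S} (x : T ⟶ A) :
    transl A x ≫ (f ▷ T) = (f ▷ T) ≫ transl B (x ≫ f) := by
  apply CartesianMonoidalCategory.hom_ext
  · rw [Category.assoc, Category.assoc, whiskerRight_fst, transl_fst, ← Category.assoc, transl_fst,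
      MonObj.comp_mul, MonObj.mul_comp, whiskerRight_fst, whiskerRight_snd_assoc, Category.assoc]
  · rw [Category.assoc, Category.assoc, whiskerRight_snd, transl_snd, transl_snd, whiskerRight_snd]

/-- A point of the theta group of the inverse image lies over a point of the theta group. -/
def IsPullPt {T : Over S} (c : thetaPts A L T) (β : thetaPts B M T) : Prop :=
  c.1.hom ≫ arrowT ρ T = arrowT ρ T ≫ β.1.hom

theorem exists_pullPt {T : Over S} {β : thetaPts B M T} {x : T ⟶ A} (hβ : IsOverPt β (x ≫ f)) :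
    ∃ c : thetaPts A L T, IsPullPt ρ c β ∧ IsOverPt c x := by
  obtain ⟨ψ, ⟨hb, hψ⟩, -⟩ := existsUnique_lift (arrowT ρ T ≫ β.1.hom) (arrowT ρ T) (transl A x).left (by
    change _ = (arrowT ρ T).base ≫ β.1.hom.base
    rw [hβ, arrowT_base, ← Over.comp_left, transl_whiskerRight, Over.comp_left])
  haveI : IsCart ψ := isCart_of_comp ψ (arrowT ρ T) (hψ ▸ inferInstance)
  obtain ⟨c, hc, hcx⟩ := exists_pt ψ x hb
  exact ⟨c, (congrArg (· ≫ arrowT ρ T) hc).trans hψ, hcx⟩

theorem IsPullPt.mul {T : Over S} {c₁ c₂ : thetaPts A L T} {β₁ β₂ : thetaPts B M T} (h₁ : IsPullPt ρ c₁ β₁)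
    (h₂ : IsPullPt ρ c₂ β₂) : IsPullPt ρ (c₁ * c₂) (β₁ * β₂) := by
  unfold IsPullPt at *
  rw [mul_hom, mul_hom, Category.assoc, h₁, ← Category.assoc, h₂, Category.assoc]

theorem IsPullPt.unique {T : Over S} {c₁ c₂ : thetaPts A L T} {β : thetaPts B M T} (h₁ : IsPullPt ρ c₁ β)
    (h₂ : IsPullPt ρ c₂ β) {x : T ⟶ A} (hx₁ : IsOverPt c₁ x) (hx₂ : IsOverPt c₂ x) : c₁ = c₂ :=
  pts_ext (cart_hom_ext (arrowT ρ T) (hx₁.trans hx₂.symm) (h₁.trans h₂.symm))

theorem IsPullPt.baseChange {T G : Over S} (g : T ⟶ G) {c : thetaPts A L G} {β : thetaPts B M G}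
    {c' : thetaPts A L T} {β' : thetaPts B M T} (h : IsPullPt ρ c β) (hc : ThetaGrp.IsBaseChange c' g c)
    (hβ : ThetaGrp.IsBaseChange β' g β) {x : G ⟶ A} (hx : IsOverPt c x) (hy : IsOverPt β (x ≫ f)) :
    IsPullPt ρ c' β' := by
  have hx' := isOverPt_baseChange hc hx
  have hy' := isOverPt_baseChange hβ hy
  unfold IsPullPt ThetaGrp.IsBaseChange at *
  refine cart_hom_ext (bcLift B M g) ?_ ?_
  · change c'.1.hom.base ≫ (arrowT ρ T).base = (arrowT ρ T).base ≫ β'.1.hom.base
    rw [arrowT_base, hx', hy', ← Over.comp_left, ← Over.comp_left, transl_whiskerRight, Category.assoc]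
  · rw [Category.assoc, ← arrowT_bc, ← Category.assoc, hc, Category.assoc, h, ← Category.assoc, arrowT_bc,
      Category.assoc, ← hβ, Category.assoc]

theorem isOverPt_one (T : Over S) : IsOverPt (1 : thetaPts A L T) (1 : T ⟶ A) := by
  unfold IsOverPt
  rw [transl_one]
  rfl

theorem isBaseChange_one {T G : Over S} (g : T ⟶ G) :
    ThetaGrp.IsBaseChange (1 : thetaPts B M T) g (1 : thetaPts B M G) :=
  (Category.id_comp _).trans (Category.comp_id _).symm

/-- The canonical point over a point of the kernel. -/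
theorem exists_canPt {T : Over S} {n : T ⟶ A} (hn : n ≫ f = 1) :
    ∃ c : thetaPts A L T, IsPullPt ρ c 1 ∧ IsOverPt c n :=
  exists_pullPt ρ (hn ▸ isOverPt_one T)

end Groth.ThetaAlg
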