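import Mathlib
import Groth.Agent.ThetaAlg.Local
import Groth.Agent.ThetaAlg.HomPull

/-!
Local lifts of points of `K(L)` to the theta group and the pullback of commutators.
-/

set_option autoImplicit false

universe u

open CategoryTheory CategoryTheory.Limits MonoidalCategory CartesianMonoidalCategory MonObj
open AlgebraicGeometry TopologicalSpace ThetaGrp

noncomputable section

namespace Groth.ThetaAlg

section

variable {S : Scheme.{u}} {A B : Over S} [GrpObj A] [GrpObj B] {f : A ⟶ B} [IsMonHom f]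
  {L : A.left.Modules} {M : B.left.Modules} (ρ : OverArrow f L M)

theorem commute_of_pullPt [IsCommMonObj A] {T : Over S} {c₁ c₂ : thetaPts A L T} {b₁ b₂ : thetaPts B M T}
    {x y : T ⟶ A} (h₁ : IsPullPt ρ c₁ b₁) (h₂ : IsPullPt ρ c₂ b₂) (hx : IsOverPt c₁ x) (hy : IsOverPt c₂ y)
    (h : b₁ * b₂ = b₂ * b₁) : c₁ * c₂ = c₂ * c₁ := by
  have h12 := h₁.mul ρ h₂
  rw [h] at h12
  have o12 := isOverPt_mul hx hy
  rw [mul_comm y x] at o12
  exact h12.unique ρ (h₂.mul ρ h₁) o12 (isOverPt_mul hy hx)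

theorem commute_of_pullPt_commute [IsCommMonObj B] (hA : SndBij A) (hB : SndBij B) (hL : PicF.IsInvertible L)
    (hM : PicF.IsInvertible M) {T : Over S} {c₁ c₂ : thetaPts A L T} {b₁ b₂ : thetaPts B M T}
    {x y : T ⟶ B} (h₁ : IsPullPt ρ c₁ b₁) (h₂ : IsPullPt ρ c₂ b₂) (hx : IsOverPt b₁ x) (hy : IsOverPt b₂ y)
    (h : c₁ * c₂ = c₂ * c₁) : b₁ * b₂ = b₂ * b₁ := by
  have o12 := isOverPt_mul hx hy
  rw [mul_comm y x] at o12
  obtain ⟨r, hr⟩ := exists_eq_sc (isInvertible_obj hM T) (b₁ * b₂).1.hom (b₂ * b₁).1.hom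
    (o12.trans (isOverPt_mul hy hx).symm)
  obtain ⟨s, rfl⟩ := (hB T).2 r
  have e1 : arrowT ρ T ≫ (b₂ * b₁).1.hom = arrowT ρ T ≫ (b₁ * b₂).1.hom := by
    have p12 := h₁.mul ρ h₂
    have p21 := h₂.mul ρ h₁
    rw [h] at p12
    exact p21.symm.trans p12
  rw [hr, comp_sc] at e1
  have e2 : (arrowT ρ T).base.appTop ((snd B T).left.appTop s) = 1 :=
    sc_injective (isInvertible_obj hL T) (arrowT ρ T ≫ (b₁ * b₂).1.hom) (e1.trans (sc_one _).symm)
  rw [arrowT_base, ← CommRingCat.comp_apply, ← Scheme.Hom.comp_appTop, ← Over.comp_left, whiskerRight_snd] at e2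
  have hs : s = 1 := (hA T).1 (e2.trans (map_one _).symm)
  refine (pts_ext ?_).symm
  rw [hr, hs, map_one, sc_one]

end

variable {k : Type u} [Field k] {A : Over (Spec (CommRingCat.of k))} [GrpObj A] [IsProper A.hom]
  [GeometricallyIntegral A.hom] {L : A.left.Modules}

/-- Points of `K(L)` lift to the theta group over the members of an open cover, also refined. -/
theorem exists_cover_lifts (hL : PicF.IsInvertible L) {K : Over (Spec (CommRingCat.of k))} {iK : K ⟶ A}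
    (hK : IsKL A L iK) {T : Over (Spec (CommRingCat.of k))} (x y : T ⟶ A) (hx : ∃ z : T ⟶ K, z ≫ iK = x)
    (hy : ∃ z : T ⟶ K, z ≫ iK = y) :
    ∃ U : T.left → T.left.Opens, iSup U = ⊤ ∧ ∀ t,
      (∃ β : thetaPts A L (Over.mk ((U t).ι ≫ T.hom)), IsOverPt β (opIn T (U t) ≫ x)) ∧
      ∃ β : thetaPts A L (Over.mk ((U t).ι ≫ T.hom)), IsOverPt β (opIn T (U t) ≫ y) := by
  choose U hU β hβ using (factors_iff_locally hL hK x).1 hx
  choose V hV γ' hγ using (factors_iff_locally hL hK y).1 hy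
  have res : ∀ {W U : T.left.Opens} (_ : W ≤ U) (z : T ⟶ A)
      (b : thetaPts A L (Over.mk (U.ι ≫ T.hom))), IsOverPt b (opIn T U ≫ z) →
      ∃ b' : thetaPts A L (Over.mk (W.ι ≫ T.hom)), IsOverPt b' (opIn T W ≫ z) := by
    intro W U h z b hb
    let g : Over.mk (W.ι ≫ T.hom) ⟶ Over.mk (U.ι ≫ T.hom) :=
      Over.homMk (T.left.homOfLE h) (by simp)
    obtain ⟨b', hb', -⟩ := existsUnique_baseChange g b
    have hg : g ≫ opIn T U = opIn T W := Over.OverMorphism.ext (T.left.homOfLE_ι h)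
    exact ⟨b', hg ▸ (Category.assoc g (opIn T U) z).symm ▸ isOverPt_baseChange hb' hb⟩
  refine ⟨fun t => U t ⊓ V t, eq_top_iff.2 fun t _ => Opens.mem_iSup.2 ⟨t, hU t, hV t⟩, fun t => ?_⟩
  exact ⟨res inf_le_left x _ (hβ t), res inf_le_right y _ (hγ t)⟩

end Groth.ThetaAlg
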