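import Mathlib
import Groth.Agent.ThetaAlg.Lifts

/-!
Lifts to the theta group with prescribed inverse image along a homomorphism, and the first factor
of a product group.
-/

set_option autoImplicit false

universe u

open CategoryTheory CategoryTheory.Limits MonoidalCategory CartesianMonoidalCategory MonObj GrpObj
open AlgebraicGeometry TopologicalSpace ThetaGrp

noncomputable section

namespace Groth.ThetaAlg

theorem isCart_sc {P Q : MObj.{u}} {r r' : Γ(P.base, ⊤)} (h : r * r' = 1) (φ : P ⟶ Q) [IsCart φ] :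
    IsCart (sc r φ) := by
  refine ⟨?_⟩
  rw [fib_sc]
  haveI : IsIso (smulEnd (modOf P) r) := ⟨smulEnd (modOf P) r',
    by rw [← smulEnd_mul]; first | rw [h, smulEnd_one] | rw [mul_comm, h, smulEnd_one],
    by rw [← smulEnd_mul]; first | rw [h, smulEnd_one] | rw [mul_comm, h, smulEnd_one]⟩
  haveI : IsIso (fib φ) := IsCart.iso
  exact IsIso.comp_isIso' ‹IsIso (smulEnd (modOf P) r)› ‹IsIso (fib φ)›

section

variable {S : Scheme.{u}} {A B : Over S} [GrpObj A] [GrpObj B] {f : A ⟶ B} [IsMonHom f]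
  {L : A.left.Modules} {M : B.left.Modules} (ρ : OverArrow f L M)

/-- A lift of a point to the theta group of the target can be normalised on the source, uniquely. -/
theorem existsUnique_pushPt (hA : SndBij A) (hB : SndBij B) (hL : PicF.IsInvertible L) (hM : PicF.IsInvertible M)
    {T : Over S} {c : thetaPts A L T} {x : T ⟶ A} (hc : IsOverPt c x) {b₀ : thetaPts B M T}
    (hb₀ : IsOverPt b₀ (x ≫ f)) : ∃! b : thetaPts B M T, IsPullPt ρ c b ∧ IsOverPt b (x ≫ f) := by
  obtain ⟨c₀, hc₀, hco⟩ := exists_pullPt ρ hb₀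
  obtain ⟨r, hr⟩ := exists_eq_sc (isInvertible_obj hL T) c₀.1.hom c.1.hom (hco.trans hc.symm)
  obtain ⟨r', hr'⟩ := exists_eq_sc (isInvertible_obj hL T) c.1.hom c₀.1.hom (hc.trans hco.symm)
  obtain ⟨s, rfl⟩ := (hA T).2 r
  obtain ⟨s', rfl⟩ := (hA T).2 r'
  have hss : s * s' = 1 := by
    refine (hA T).1 ?_
    rw [map_mul, map_one]
    refine sc_injective (isInvertible_obj hL T) c.1.hom ?_
    rw [sc_one, ← sc_sc, ← hr', ← hr]
  have hbase : ∀ u : Γ(T.left, ⊤),
      (arrowT ρ T).base.appTop ((snd B T).left.appTop u) = (snd A T).left.appTop u := fun u => by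
    rw [arrowT_base, ← CommRingCat.comp_apply, ← Scheme.Hom.comp_appTop, ← Over.comp_left, whiskerRight_snd]
  haveI := isCart_sc (P := thetaObj B M T) (r := (snd B T).left.appTop s) (r' := (snd B T).left.appTop s')
    (by rw [← map_mul, hss, map_one]) b₀.1.hom
  obtain ⟨b, hb, hbo⟩ := exists_pt (sc ((snd B T).left.appTop s) b₀.1.hom) (x ≫ f) hb₀
  have hbp : IsPullPt ρ c b := by
    unfold IsPullPt at *
    rw [hb, hr, sc_comp, hc₀, comp_sc, hbase]
  refine ⟨b, ⟨hbp, hbo⟩, fun b' hb' => ?_⟩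
  obtain ⟨t, ht⟩ := exists_eq_sc (isInvertible_obj hM T) b.1.hom b'.1.hom (hbo.trans hb'.2.symm)
  obtain ⟨t, rfl⟩ := (hB T).2 t
  have e := hb'.1.symm.trans hbp
  rw [ht, comp_sc, hbase] at e
  have e2 := sc_injective (isInvertible_obj hL T) (arrowT ρ T ≫ b.1.hom) (e.trans (sc_one _).symm)
  have ht1 : t = 1 := (hA T).1 (e2.trans (map_one _).symm)
  refine pts_ext ?_
  rw [ht, ht1, map_one, sc_one]

end

variable {S : Scheme.{u}} {A : Over S} [GrpObj A]

theorem sndBij_tensor (hA : SndBij A) : SndBij (A ⊗ A) := fun T => by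
  have e : (α_ A A T).hom ≫ snd A (A ⊗ T) ≫ snd A T = snd (A ⊗ A) T := by simp
  rw [← e, Over.comp_left, Over.comp_left, Scheme.Hom.comp_appTop, Scheme.Hom.comp_appTop]
  haveI : IsIso (α_ A A T).hom.left := inferInstanceAs (IsIso ((Over.forget _).map (α_ A A T).hom))
  haveI : IsIso (α_ A A T).hom.left.appTop := inferInstanceAs (IsIso ((α_ A A T).hom.left.app ⊤))
  simp only [CommRingCat.hom_comp, RingHom.coe_comp]
  exact (ConcreteCategory.bijective_of_isIso (α_ A A T).hom.left.appTop).comp ((hA (A ⊗ T)).comp (hA T))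

instance isMonHom_lift_one : IsMonHom (lift (𝟙 A) (1 : A ⟶ A)) where
  one_hom := by
    apply CartesianMonoidalCategory.hom_ext
    · rw [Category.assoc, lift_fst, Category.comp_id, IsMonHom.one_hom (fst A A)]
    · rw [Category.assoc, lift_snd, MonObj.comp_one, IsMonHom.one_hom (snd A A), MonObj.one_eq_one]
  mul_hom := by
    apply CartesianMonoidalCategory.hom_ext
    · rw [Category.assoc, lift_fst, Category.comp_id, Category.assoc, IsMonHom.mul_hom (fst A A),
        ← Category.assoc, tensorHom_comp_tensorHom, lift_fst, MonoidalCategory.id_tensorHom_id, Category.id_comp]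
    · rw [Category.assoc, lift_snd, MonObj.comp_one, Category.assoc, IsMonHom.mul_hom (snd A A),
        ← Category.assoc, tensorHom_comp_tensorHom, lift_snd, MonObj.mul_eq_mul, MonObj.comp_mul,
        tensorHom_fst, tensorHom_snd, MonObj.comp_one, MonObj.comp_one, _root_.one_mul]

end Groth.ThetaAlg

namespace Groth.ThetaAlg

open Groth.Abvar Groth.Abvar.PicCalc

variable {k : Type u} [Field k] {A : Over (Spec (CommRingCat.of k))} [GrpObj A] [IsCommMonObj A]
  {L : A.left.Modules} {Λ : (A ⊗ A).left.Modules}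

theorem cls_lambda (hL : PicF.IsInvertible L) (hΛi : PicF.IsInvertible Λ)
    (hΛ : AgPol.IsLambdaSheaf μ[A].left (fst A A).left (snd A A).left L Λ) :
    cls hΛi = opull μ[A] (cls hL) * (opull (fst A A) (cls hL) * opull (snd A A) (cls hL))⁻¹ := by
  have hp := PicLoc.isInvertible_pullback (fst A A).left hL
  have hq := PicLoc.isInvertible_pullback (snd A A).left hL
  have h := (nonempty_iso_iff (isInvertible_tensorMod (isInvertible_tensorMod hΛi hp) hq)
    (PicLoc.isInvertible_pullback _ hL)).mp hΛ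
  rw [cls_tensorMod (isInvertible_tensorMod hΛi hp) hq, cls_tensorMod hΛi hp, ← pull_cls _ hL,
    ← pull_cls _ hL, ← pull_cls _ hL, _root_.mul_assoc] at h
  exact eq_mul_inv_iff_mul_eq.2 h

theorem opull_lambda (hL : PicF.IsInvertible L) (hΛi : PicF.IsInvertible Λ)
    (hΛ : AgPol.IsLambdaSheaf μ[A].left (fst A A).left (snd A A).left L Λ) {T : Over (Spec (CommRingCat.of k))}
    (x q : T ⟶ A) : opull (lift x q) (cls hΛi) =
      opull (x * q) (cls hL) * (opull x (cls hL) * opull q (cls hL))⁻¹ := by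
  rw [cls_lambda hL hΛi hΛ, map_mul, map_inv, map_mul, ← opull_comp, ← opull_comp, ← opull_comp, lift_fst,
    lift_snd]
  rfl

theorem exists_lift_fst [IsProper A.hom] [GeometricallyIntegral A.hom] (hL : PicF.IsInvertible L)
    (hΛi : PicF.IsInvertible Λ) (hΛ : AgPol.IsLambdaSheaf μ[A].left (fst A A).left (snd A A).left L Λ)
    {K : Over (Spec (CommRingCat.of k))} {iK : K ⟶ A} (hK : IsKL A L iK) :
    ∃ b : thetaPts (A ⊗ A) Λ K, IsOverPt b (lift iK (1 : K ⟶ A)) := by
  refine (exists_pt_iff hΛi _).2 ?_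
  set p := fst (A ⊗ A) K ≫ fst A A
  set q := fst (A ⊗ A) K ≫ snd A A
  set w := snd (A ⊗ A) K ≫ iK
  have h0 : fst (A ⊗ A) K = lift p q := by
    apply CartesianMonoidalCategory.hom_ext <;> simp [p, q]
  have h1 : fst (A ⊗ A) K * (snd (A ⊗ A) K ≫ lift iK (1 : K ⟶ A)) = lift (p * w) q := by
    apply CartesianMonoidalCategory.hom_ext
    · rw [MonObj.mul_comp, lift_fst, Category.assoc, lift_fst]
    · rw [MonObj.mul_comp, lift_snd, Category.assoc, lift_snd, MonObj.comp_one, _root_.mul_one]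
  have hw : Mumford.Additive' (cls hL) w := (Mumford.additive'_iff L hL hK w).1 ⟨snd (A ⊗ A) K, rfl⟩
  rw [h1, h0, opull_lambda hL hΛi hΛ, opull_lambda hL hΛi hΛ, mul_right_comm p w q, hw.point (p * q),
    hw.point p, mul_right_comm (opull p (cls hL)) (opull w (cls hL)), _root_.mul_inv _ (opull w (cls hL)), _root_.mul_mul_mul_comm,
    mul_inv_cancel, _root_.mul_one]

theorem cls_slice (hL : PicF.IsInvertible L) (hΛi : PicF.IsInvertible Λ)
    (hΛ : AgPol.IsLambdaSheaf μ[A].left (fst A A).left (snd A A).left L Λ) :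
    opull (lift (𝟙 A) (1 : A ⟶ A)) (cls hΛi) = 1 := by
  rw [opull_lambda hL hΛi hΛ, _root_.mul_one, opull_one, _root_.mul_one, mul_inv_cancel]

end Groth.ThetaAlg
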