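import Mathlib
import Groth.Agent.ThetaAlg.Lifts

/-!
The commutator of two points of the theta group as a function on the test scheme.
-/

set_option autoImplicit false

universe u

open CategoryTheory CategoryTheory.Limits MonoidalCategory CartesianMonoidalCategory MonObj GrpObj
open AlgebraicGeometry TopologicalSpace ThetaGrp Opposite Groth.PicAux
open Pseudofunctor Bicategory

noncomputable section

namespace Groth.ThetaAlg

variable {S : Scheme.{u}} {A : Over S} [GrpObj A] {L : A.left.Modules}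

/-- `r` is the commutator of `α` and `β`. -/
def IsScal {T : Over S} (α β : thetaPts A L T) (r : Γ(T.left, ⊤)) : Prop :=
  (β * α).1.hom = sc ((snd A T).left.appTop r) (α * β).1.hom

theorem isScal_one_iff {T : Over S} (α β : thetaPts A L T) : IsScal α β 1 ↔ α * β = β * α := by
  unfold IsScal
  rw [map_one, sc_one]
  exact ⟨fun h => (pts_ext h).symm, fun h => by rw [h]⟩

theorem IsScal.unique (hA : SndBij A) (hL : PicF.IsInvertible L) {T : Over S} {α β : thetaPts A L T}
    {r r' : Γ(T.left, ⊤)} (h : IsScal α β r) (h' : IsScal α β r') : r = r' :=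
  (hA T).1 (sc_injective (isInvertible_obj hL T) (α * β).1.hom (h.symm.trans h'))

theorem exists_isScal [IsCommMonObj A] (hA : SndBij A) (hL : PicF.IsInvertible L) {T : Over S}
    (α β : thetaPts A L T) : ∃ r, IsScal α β r := by
  obtain ⟨x, hx⟩ := exists_isOverPt α
  obtain ⟨y, hy⟩ := exists_isOverPt β
  have h1 := isOverPt_mul hx hy
  rw [mul_comm y x] at h1
  obtain ⟨s, hs⟩ := exists_eq_sc (isInvertible_obj hL T) (α * β).1.hom (β * α).1.hom
    (h1.trans (isOverPt_mul hy hx).symm)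
  obtain ⟨r, rfl⟩ := (hA T).2 s
  exact ⟨r, hs⟩

theorem IsScal.indep (hA : SndBij A) (hL : PicF.IsInvertible L) {T : Over S} {α β α' β' : thetaPts A L T}
    {x y : T ⟶ A} (hα : IsOverPt α x) (hβ : IsOverPt β y) (hα' : IsOverPt α' x) (hβ' : IsOverPt β' y)
    {r : Γ(T.left, ⊤)} (h : IsScal α β r) : IsScal α' β' r := by
  obtain ⟨a, ha⟩ := exists_eq_sc (isInvertible_obj hL T) α.1.hom α'.1.hom (hα.trans hα'.symm)
  obtain ⟨b, hb⟩ := exists_eq_sc (isInvertible_obj hL T) β.1.hom β'.1.hom (hβ.trans hβ'.symm)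
  unfold IsScal at *
  rw [mul_hom, mul_hom] at *
  rw [ha, hb, sc_comp_sc hA, sc_comp_sc hA, h, sc_sc, sc_sc]
  congr 1
  ring

theorem IsScal.baseChange (hA : SndBij A) {T G : Over S} {g : T ⟶ G} {u v : thetaPts A L G}
    {α β : thetaPts A L T} (hα : ThetaGrp.IsBaseChange α g u) (hβ : ThetaGrp.IsBaseChange β g v)
    {r : Γ(G.left, ⊤)} (h : IsScal u v r) : IsScal α β (g.left.appTop r) := by
  have h1 := isBaseChange_mul hα hβ
  have h2 := isBaseChange_mul hβ hα
  unfold IsScal ThetaGrp.IsBaseChange at *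
  obtain ⟨x, hx⟩ := exists_isOverPt (α * β)
  obtain ⟨y, hy⟩ := exists_isOverPt (β * α)
  refine cart_hom_ext (bcLift A L g) ?_ ?_
  · change (β * α).1.hom.base = (α * β).1.hom.base
    have e := congrArg (fun φ : thetaObj A L T ⟶ thetaObj A L G => φ.base) h2
    have e1 := congrArg (fun φ : thetaObj A L T ⟶ thetaObj A L G => φ.base) h1
    have e3 : (β * α).1.hom.base ≫ (A ◁ g).left = (α * β).1.hom.base ≫ (A ◁ g).left := by
      refine (e.trans ?_).trans e1.symm
      change (A ◁ g).left ≫ (v * u).1.hom.base = (A ◁ g).left ≫ (u * v).1.hom.base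
      rw [h]
      rfl
    rw [hx, hy] at e3 ⊢
    have e4 : transl A y ≫ (A ◁ g) = transl A x ≫ (A ◁ g) := Over.OverMorphism.ext e3
    have e5 := congrArg (fun t => lift (1 : T ⟶ A) (𝟙 T) ≫ t ≫ fst A G) e4
    simp [transl, comp_mul] at e5
    rw [e5]
  · rw [h2, h, comp_sc, sc_comp, h1]
    congr 1
    change ((snd A G).left.appTop ≫ (A ◁ g).left.appTop) r = (g.left.appTop ≫ (snd A T).left.appTop) r
    rw [← Scheme.Hom.comp_appTop, ← Scheme.Hom.comp_appTop, ← Over.comp_left, ← Over.comp_left, whiskerLeft_snd]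

theorem commute_baseChange {T G : Over S} {g : T ⟶ G} {u v : thetaPts A L G} {α β : thetaPts A L T}
    (hA : SndBij A) (hα : ThetaGrp.IsBaseChange α g u) (hβ : ThetaGrp.IsBaseChange β g v) (h : u * v = v * u) :
    α * β = β * α := by
  have := IsScal.baseChange hA hα hβ ((isScal_one_iff u v).2 h)
  rw [map_one] at this
  exact (isScal_one_iff α β).1 this

theorem ι_appTop_injective {X : Scheme.{u}} (U : X.Opens) {r s : Γ(X, ⊤)} (h : U.ι.appTop r = U.ι.appTop s) :
    resX X (le_top : U ≤ ⊤) r = resX X (le_top : U ≤ ⊤) s := by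
  have hinj : Function.Injective U.topIso.inv.hom := (ConcreteCategory.bijective_of_isIso U.topIso.inv).1
  refine hinj ?_
  have : ∀ t : Γ(X, ⊤), U.topIso.inv (resX X (le_top : U ≤ ⊤) t) = U.ι.appTop t := fun t => by
    change (X.presheaf.map _ ≫ U.topIso.inv) t = _
    rw [Scheme.Opens.ι_appTop, Scheme.Opens.topIso_inv]
    exact congr(($((X.presheaf.map_comp _ _).symm)).hom t)
  rw [this, this, h]

theorem presheaf_square (X : Scheme.{u}) {a b c d : X.Opensᵒᵖ} (f : a ⟶ b) (g : b ⟶ d) (f' : a ⟶ c) (g' : c ⟶ d)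
    (t : X.presheaf.obj a) :
    (X.presheaf.map f ≫ X.presheaf.map g) t = (X.presheaf.map f' ≫ X.presheaf.map g') t := by
  rw [← Functor.map_comp, ← Functor.map_comp, Subsingleton.elim (f ≫ g) (f' ≫ g')]

/-- The commutator of the lifts of two points, glued. -/
theorem exists_pairing [IsCommMonObj A] (hA : SndBij A) (hL : PicF.IsInvertible L) {T : Over S} (x y : T ⟶ A)
    {κ : Type u} (U : κ → T.left.Opens) (hU : iSup U = ⊤)
    (a b : ∀ i, thetaPts A L (Over.mk ((U i).ι ≫ T.hom)))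
    (ha : ∀ i, IsOverPt (a i) ((Over.homMk (U i).ι rfl : Over.mk ((U i).ι ≫ T.hom) ⟶ T) ≫ x))
    (hb : ∀ i, IsOverPt (b i) ((Over.homMk (U i).ι rfl : Over.mk ((U i).ι ≫ T.hom) ⟶ T) ≫ y)) :
    ∃ r : Γ(T.left, ⊤), ∀ (T' : Over S) (g : T' ⟶ T) (α β : thetaPts A L T'),
      IsOverPt α (g ≫ x) → IsOverPt β (g ≫ y) → IsScal α β (g.left.appTop r) := by
  choose r hr using fun i => exists_isScal hA hL (a i) (b i)
  -- two refinements give the same commutator
  have key : ∀ (T' : Over S) (i j : κ) (g : T' ⟶ T) (p : T' ⟶ Over.mk ((U i).ι ≫ T.hom))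
      (q : T' ⟶ Over.mk ((U j).ι ≫ T.hom)), p ≫ Over.homMk (U i).ι rfl = g → q ≫ Over.homMk (U j).ι rfl = g →
      p.left.appTop (r i) = q.left.appTop (r j) := by
    intro T' i j g p q hp hq
    obtain ⟨a₁, ha₁, -⟩ := existsUnique_baseChange p (a i)
    obtain ⟨b₁, hb₁, -⟩ := existsUnique_baseChange p (b i)
    obtain ⟨a₂, ha₂, -⟩ := existsUnique_baseChange q (a j)
    obtain ⟨b₂, hb₂, -⟩ := existsUnique_baseChange q (b j)
    have oa₁ := isOverPt_baseChange ha₁ (ha i); rw [← Category.assoc, hp] at oa₁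
    have ob₁ := isOverPt_baseChange hb₁ (hb i); rw [← Category.assoc, hp] at ob₁
    have oa₂ := isOverPt_baseChange ha₂ (ha j); rw [← Category.assoc, hq] at oa₂
    have ob₂ := isOverPt_baseChange hb₂ (hb j); rw [← Category.assoc, hq] at ob₂
    exact (((hr i).baseChange hA ha₁ hb₁).indep hA hL oa₁ ob₁ oa₂ ob₂).unique hA hL ((hr j).baseChange hA ha₂ hb₂)
  obtain ⟨R, hR⟩ : ∃ R : Γ(T.left, ⊤), ∀ i, (U i).ι.appTop R = r i := by
    have := T.left.sheaf.existsUnique_gluing' U ⊤ (fun i => homOfLE le_top) hU.ge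
      (fun i => (U i).topIso.hom (r i)) (fun i j => by
        let W : T.left.Opens := U i ⊓ U j
        let p : Over.mk (W.ι ≫ T.hom) ⟶ Over.mk ((U i).ι ≫ T.hom) :=
          Over.homMk (T.left.homOfLE inf_le_left) (by simp [W])
        let q : Over.mk (W.ι ≫ T.hom) ⟶ Over.mk ((U j).ι ≫ T.hom) :=
          Over.homMk (T.left.homOfLE inf_le_right) (by simp [W])
        have e := key _ i j (Over.homMk W.ι rfl : Over.mk (W.ι ≫ T.hom) ⟶ T) p q (Over.OverMorphism.ext (T.left.homOfLE_ι inf_le_left))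
          (Over.OverMorphism.ext (T.left.homOfLE_ι inf_le_right))
        change (T.left.homOfLE (inf_le_left : W ≤ U i)).appTop (r i) = (T.left.homOfLE (inf_le_right : W ≤ U j)).appTop (r j) at e
        have hc : ∀ (V : T.left.Opens) (h : W ≤ V) (t : Γ((V : Scheme.{u}), ⊤)),
            W.topIso.hom ((T.left.homOfLE h).appTop t) = T.left.presheaf.map (homOfLE h).op (V.topIso.hom t) := by
          intro V h t
          change ((T.left.homOfLE h).appTop ≫ W.topIso.hom) t = (V.topIso.hom ≫ T.left.presheaf.map (homOfLE h).op) t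
          rw [Scheme.homOfLE_appTop, Scheme.Opens.topIso_hom, Scheme.Opens.topIso_hom]
          exact presheaf_square T.left _ _ _ _ t
        have e' := congrArg W.topIso.hom e
        rw [hc _ inf_le_left, hc _ inf_le_right] at e'
        exact e')
    obtain ⟨R, hR, -⟩ := this
    refine ⟨R, fun i => ?_⟩
    have hinj : Function.Injective (U i).topIso.hom.hom := (ConcreteCategory.bijective_of_isIso (U i).topIso.hom).1
    refine hinj ?_
    refine Eq.trans ?_ (hR i)
    change ((U i).ι.appTop ≫ (U i).topIso.hom) R = _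
    rw [Scheme.Opens.ι_appTop, Scheme.Opens.topIso_hom]
    exact congr(($((T.left.presheaf.map_comp _ _).symm)).hom R)
  refine ⟨R, fun T' g α β hα hβ => ?_⟩
  obtain ⟨s, hs⟩ := exists_isScal hA hL α β
  suffices h : s = g.left.appTop R by rwa [← h]
  have hV : iSup (fun i => g.left ⁻¹ᵁ U i) = ⊤ := by
    refine eq_top_iff.2 fun z _ => ?_
    obtain ⟨i, hi⟩ := Opens.mem_iSup.1 (hU.symm ▸ trivial : g.left z ∈ iSup U)
    exact Opens.mem_iSup.2 ⟨i, hi⟩
  refine T'.left.sheaf.eq_of_locally_eq' (fun i => g.left ⁻¹ᵁ U i) ⊤ (fun i => homOfLE le_top) hV.ge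
    s (g.left.appTop R) fun i => ?_
  refine ι_appTop_injective (g.left ⁻¹ᵁ U i) ?_
  let gi : Over.mk ((g.left ⁻¹ᵁ U i).ι ≫ T'.hom) ⟶ T' := Over.homMk (g.left ⁻¹ᵁ U i).ι rfl
  let p : Over.mk ((g.left ⁻¹ᵁ U i).ι ≫ T'.hom) ⟶ Over.mk ((U i).ι ≫ T.hom) :=
    Over.homMk (g.left ∣_ U i) (by
      change (g.left ∣_ U i) ≫ (U i).ι ≫ T.hom = (g.left ⁻¹ᵁ U i).ι ≫ T'.hom
      rw [← Category.assoc, morphismRestrict_ι, Category.assoc, Over.w])
  have hp : p ≫ Over.homMk (U i).ι rfl = gi ≫ g := Over.OverMorphism.ext (morphismRestrict_ι _ _)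
  obtain ⟨a₁, ha₁, -⟩ := existsUnique_baseChange p (a i)
  obtain ⟨b₁, hb₁, -⟩ := existsUnique_baseChange p (b i)
  obtain ⟨a₂, ha₂, -⟩ := existsUnique_baseChange gi α
  obtain ⟨b₂, hb₂, -⟩ := existsUnique_baseChange gi β
  have oa₁ := isOverPt_baseChange ha₁ (ha i); rw [← Category.assoc, hp, Category.assoc] at oa₁
  have ob₁ := isOverPt_baseChange hb₁ (hb i); rw [← Category.assoc, hp, Category.assoc] at ob₁
  have e : gi.left.appTop s = p.left.appTop (r i) :=
    (hs.baseChange hA ha₂ hb₂).unique hA hL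
      (((hr i).baseChange hA ha₁ hb₁).indep hA hL oa₁ ob₁ (isOverPt_baseChange ha₂ hα) (isOverPt_baseChange hb₂ hβ))
  refine e.trans ?_
  rw [← hR i]
  change ((U i).ι.appTop ≫ p.left.appTop) R = (g.left.appTop ≫ gi.left.appTop) R
  rw [← Scheme.Hom.comp_appTop, ← Scheme.Hom.comp_appTop]
  exact congrArg (fun h : (g.left ⁻¹ᵁ U i : Scheme.{u}) ⟶ T.left => h.appTop R) (morphismRestrict_ι _ _)

end Groth.ThetaAlg
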