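import Mathlib
import Groth.Agent.ThetaAlg.Desc
import Groth.Agent.DescentBase.EffIso

/-!
Descent data from transports of arrows.
-/

set_option autoImplicit false
set_option backward.isDefEq.respectTransparency.types false

universe u

open CategoryTheory CategoryTheory.Limits AlgebraicGeometry TopologicalSpace Opposite Groth.DescentBase
open Pseudofunctor Bicategory

noncomputable section

namespace Groth.ThetaAlg

variable {X S : Scheme.{u}} (q : X ⟶ S) (L : X.Modules)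

/-- A rule moving arrows into `(X, L)` along the kernel pair of `q`. -/
structure Transport where
  /-- the moved arrow -/
  T : ∀ (W : MObj.{u}) (r : W ⟶ (⟨X, L⟩ : MObj.{u})) (g : W.base ⟶ X),
    r.base ≫ q = g ≫ q → (W ⟶ (⟨X, L⟩ : MObj.{u}))
  base : ∀ W r g h, (T W r g h).base = g
  self : ∀ W r h, T W r r.base h = r
  trans : ∀ W r g g' h h' h'', T W (T W r g h) g' h' = T W r g' h''
  natural : ∀ (W W' : MObj.{u}) (H : W' ⟶ W) r g h h', H ≫ T W r g h = T W' (H ≫ r) (H.base ≫ g) h'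

variable {q L} (τ : Transport q L)

theorem Transport.T_congr {W : MObj.{u}} {r r' : W ⟶ (⟨X, L⟩ : MObj.{u})} {g g' : W.base ⟶ X} (hr : r = r')
    (hg : g = g') {h} {h'} : τ.T W r g h = τ.T W r' g' h' := by
  subst hr hg; rfl

/-- The standard arrow over a morphism. -/
def stdArr {Y : Scheme.{u}} (g : Y ⟶ X) (L : X.Modules) :
    (⟨Y, (Scheme.Modules.pullback g).obj L⟩ : MObj.{u}) ⟶ (⟨X, L⟩ : MObj.{u}) := ⟨g, 𝟙 _⟩

/-- The transport as a morphism of inverse images. -/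
def Transport.tHom {Y : Scheme.{u}} (g₁ g₂ : Y ⟶ X) (h : g₁ ≫ q = g₂ ≫ q) :
    (Scheme.Modules.pullback g₁).obj L ⟶ (Scheme.Modules.pullback g₂).obj L :=
  fib (τ.T _ (stdArr g₁ L) g₂ h) ≫ (Scheme.Modules.pullbackCongr (τ.base _ _ _ _)).hom.app L

/-- A morphism over the identity. -/
def vert {Y : Scheme.{u}} {M N : Y.Modules} (a : M ⟶ N) : (⟨Y, M⟩ : MObj.{u}) ⟶ (⟨Y, N⟩ : MObj.{u}) :=
  ⟨𝟙 Y, a ≫ (Scheme.Modules.pullbackId Y).inv.app N⟩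

theorem congr_self {Y Z : Scheme.{u}} {g : Y ⟶ Z} (e : g = g) (N : Z.Modules) :
    (Scheme.Modules.pullbackCongr e).hom.app N = 𝟙 _ := by
  simp [Scheme.Modules.pullbackCongr]

theorem arr_eq_of_base {W Q : MObj.{u}} (φ : W ⟶ Q) {g : W.base ⟶ Q.base} (e : φ.base = g) :
    φ = ⟨g, fib φ ≫ (Scheme.Modules.pullbackCongr e).hom.app (modOf Q)⟩ :=
  eq_of_fib e rfl

theorem vert_comp {Y Z : Scheme.{u}} {M N : Y.Modules} {L' : Z.Modules} (a : M ⟶ N) (g : Y ⟶ Z)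
    (b : N ⟶ (Scheme.Modules.pullback g).obj L') :
    vert a ≫ (⟨g, b⟩ : (⟨Y, N⟩ : MObj.{u}) ⟶ (⟨Z, L'⟩ : MObj.{u})) = ⟨g, a ≫ b⟩ := by
  have e := fib_eq_of_eq (Category.id_comp (⟨g, b⟩ : (⟨Y, N⟩ : MObj.{u}) ⟶ (⟨Z, L'⟩ : MObj.{u})))
    (Category.id_comp g).symm
  refine eq_of_fib (Category.id_comp g) ?_
  rw [fib_comp] at e
  have e' : (Scheme.Modules.pullbackId Y).inv.app N ≫ (Scheme.Modules.pullback (𝟙 Y)).map b ≫
      (Scheme.Modules.pullbackComp (𝟙 Y) g).hom.app L' =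
      b ≫ (Scheme.Modules.pullbackCongr (Category.id_comp g).symm).hom.app L' := e
  rw [fib_comp]
  change ((a ≫ (Scheme.Modules.pullbackId Y).inv.app N) ≫ (Scheme.Modules.pullback (𝟙 Y)).map b ≫
      (Scheme.Modules.pullbackComp (𝟙 Y) g).hom.app L') ≫
        (Scheme.Modules.pullbackCongr (Category.id_comp g)).hom.app L' = a ≫ b
  rw [Category.assoc a, e', Category.assoc, Category.assoc]
  simp [Scheme.Modules.pullbackCongr]

theorem Transport.arr_tHom {Y : Scheme.{u}} (g₁ g₂ : Y ⟶ X) (h : g₁ ≫ q = g₂ ≫ q) :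
    τ.T (⟨Y, (Scheme.Modules.pullback g₁).obj L⟩ : MObj.{u}) (stdArr g₁ L) g₂ h = ⟨g₂, τ.tHom g₁ g₂ h⟩ :=
  arr_eq_of_base _ _

theorem hom_eq_of_arr_eq {W : MObj.{u}} {Z : Scheme.{u}} {N : Z.Modules} {g : W.base ⟶ Z}
    {a b : modOf W ⟶ (Scheme.Modules.pullback g).obj N}
    (h : (⟨g, a⟩ : W ⟶ (⟨Z, N⟩ : MObj.{u})) = ⟨g, b⟩) : a = b := by
  have e := fib_eq_of_eq h rfl
  rw [congr_self] at e
  exact e.trans (Category.comp_id b)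

theorem Transport.tHom_self {Y : Scheme.{u}} (g : Y ⟶ X) (h : g ≫ q = g ≫ q) : τ.tHom g g h = 𝟙 _ :=
  hom_eq_of_arr_eq ((τ.arr_tHom g g h).symm.trans (τ.self _ (stdArr g L) h))

theorem Transport.tHom_comp {Y : Scheme.{u}} (g₁ g₂ g₃ : Y ⟶ X) (h₁₂ : g₁ ≫ q = g₂ ≫ q) (h₂₃ : g₂ ≫ q = g₃ ≫ q)
    (h₁₃ : g₁ ≫ q = g₃ ≫ q) : τ.tHom g₁ g₂ h₁₂ ≫ τ.tHom g₂ g₃ h₂₃ = τ.tHom g₁ g₃ h₁₃ := by
  let v := vert (τ.tHom g₁ g₂ h₁₂)
  have h2 : τ.T _ (stdArr g₁ L) g₂ h₁₂ = v ≫ stdArr g₂ L := by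
    rw [τ.arr_tHom]
    exact ((vert_comp (τ.tHom g₁ g₂ h₁₂) g₂ (𝟙 _)).trans
      (congrArg (fun a : (Scheme.Modules.pullback g₁).obj L ⟶ (Scheme.Modules.pullback g₂).obj L =>
        (CoGrothendieck.Hom.mk g₂ a : (⟨Y, (Scheme.Modules.pullback g₁).obj L⟩ : MObj.{u}) ⟶ (⟨X, L⟩ : MObj.{u})))
        (Category.comp_id (τ.tHom g₁ g₂ h₁₂)))).symm
  have h3 : τ.T (⟨Y, (Scheme.Modules.pullback g₁).obj L⟩ : MObj.{u}) (stdArr g₁ L) g₃ h₁₃ =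
      v ≫ τ.T _ (stdArr g₂ L) g₃ h₂₃ := by
    rw [← τ.trans _ (stdArr g₁ L) g₂ g₃ h₁₂ (by rw [τ.base]; exact h₂₃) h₁₃,
      τ.natural _ _ v (stdArr g₂ L) g₃ h₂₃ (by
        change (𝟙 Y ≫ g₂) ≫ q = (𝟙 Y ≫ g₃) ≫ q
        rw [Category.id_comp, Category.id_comp, h₂₃])]
    exact τ.T_congr h2 (Category.id_comp g₃).symm
  rw [τ.arr_tHom, τ.arr_tHom] at h3
  exact (hom_eq_of_arr_eq (h3.trans (vert_comp _ g₃ _))).symm

theorem Transport.tHom_pull {Y' Y : Scheme.{u}} (g : Y' ⟶ Y) (g₁ g₂ : Y ⟶ X) (a₁ a₂ : Y' ⟶ X)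
    (e₁ : g ≫ g₁ = a₁) (e₂ : g ≫ g₂ = a₂) (h : g₁ ≫ q = g₂ ≫ q) (h' : a₁ ≫ q = a₂ ≫ q) :
    (pullTo g g₁ a₁ e₁ L).inv ≫ (Scheme.Modules.pullback g).map (τ.tHom g₁ g₂ h) ≫
      (pullTo g g₂ a₂ e₂ L).hom = τ.tHom a₁ a₂ h' := by
  subst e₁
  subst e₂
  let H : (⟨Y', (Scheme.Modules.pullback (g ≫ g₁)).obj L⟩ : MObj.{u}) ⟶
      (⟨Y, (Scheme.Modules.pullback g₁).obj L⟩ : MObj.{u}) := ⟨g, (pullTo g g₁ (g ≫ g₁) rfl L).inv⟩
  have h1 : H ≫ stdArr g₁ L = stdArr (g ≫ g₁) L := by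
    refine eq_of_fib rfl ?_
    rw [fib_comp]
    change ((pullTo g g₁ (g ≫ g₁) rfl L).inv ≫ (Scheme.Modules.pullback g).map (𝟙 _) ≫
      (Scheme.Modules.pullbackComp g g₁).hom.app L) ≫ 𝟙 _ = 𝟙 _
    simp [pullTo, Scheme.Modules.pullbackCongr]
  have h2 := τ.natural _ _ H (stdArr g₁ L) g₂ h (by
    change (g ≫ g₁) ≫ q = (g ≫ g₂) ≫ q
    exact h')
  rw [τ.arr_tHom, τ.T_congr (h' := h') h1 rfl, τ.arr_tHom] at h2
  have e := fib_eq_of_eq h2.symm rfl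
  rw [congr_self, fib_comp] at e
  refine Eq.trans ?_ (e.trans (Category.comp_id _)).symm
  change _ = (pullTo g g₁ (g ≫ g₁) rfl L).inv ≫ (Scheme.Modules.pullback g).map (τ.tHom g₁ g₂ h) ≫
      (Scheme.Modules.pullbackComp g g₂).hom.app L
  simp [pullTo, Scheme.Modules.pullbackCongr]

/-- The descent datum of a transport. -/
def Transport.datum : Desc.modPF.{u}.DescentData (fun _ : PUnit.{u + 1} => q) where
  obj _ := L
  hom Y c i₁ i₂ g₁ g₂ hf₁ hf₂ := τ.tHom g₁ g₂ (hf₁.trans hf₂.symm)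
  pullHom_hom Y' Y g c c' hc i₁ i₂ g₁ g₂ hf₁ hf₂ a₁ a₂ ha₁ ha₂ := by
    dsimp only [LocallyDiscreteOpToCat.pullHom]
    rw [mapComp'_hom_eq_pullTo g g₁ a₁ ha₁, mapComp'_inv_eq_pullTo g g₂ a₂ ha₂]
    exact τ.tHom_pull g g₁ g₂ a₁ a₂ ha₁ ha₂ _ _
  hom_self Y c i g hg := τ.tHom_self g _
  hom_comp Y c i₁ i₂ i₃ g₁ g₂ g₃ _ _ _ := τ.tHom_comp g₁ g₂ g₃ _ _ _

include τ in
/-- A transport on a quasi-coherent module along an fpqc morphism descends it. -/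
theorem Transport.exists_descent [Flat q] [Surjective q] [QuasiCompact q] (hL : L.IsQuasicoherent) :
    ∃ M : S.Modules, M.IsQuasicoherent ∧ Nonempty ((Scheme.Modules.pullback q).obj M ≅ L) := by
  obtain ⟨M, hM, ⟨e⟩⟩ := exists_toDescentData_iso (singleton_mem q) τ.datum (fun _ => hL)
  exact ⟨M, hM, ⟨{
    hom := e.hom.hom PUnit.unit
    inv := e.inv.hom PUnit.unit
    hom_inv_id := congrArg (fun D : (Desc.modPF.{u}.toDescentData _).obj M ⟶ (Desc.modPF.{u}.toDescentData _).obj M =>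
      D.hom PUnit.unit) e.hom_inv_id
    inv_hom_id := congrArg (fun D : τ.datum ⟶ τ.datum => D.hom PUnit.unit) e.inv_hom_id }⟩⟩

end Groth.ThetaAlg
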