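import Mathlib
import Groth.Agent.ThetaAlg.Lifts
import Groth.Agent.ThetaAlg.Desc
import Groth.Agent.GrpschAbsch.FibreFlat
import Groth.Prelude.Def_AlgGrp

/-!
Points of the theta group commuting with the kernel of a surjective homomorphism descend.
-/

set_option autoImplicit false

universe u

open CategoryTheory CategoryTheory.Limits MonoidalCategory CartesianMonoidalCategory MonObj GrpObj
open AlgebraicGeometry ThetaGrp
open Pseudofunctor Bicategory

noncomputable section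

namespace Groth.ThetaAlg

variable {k : Type u} [Field k] {A B : Over (Spec (CommRingCat.of k))} [GrpObj A] [GrpObj B]
  {f : A ⟶ B} [IsMonHom f] {L : A.left.Modules} {M : B.left.Modules}

/-- The base change of `f` to a test scheme is faithfully flat and quasi-compact. -/
theorem sfq_whiskerRight [IsProper A.hom] [GeometricallyIntegral A.hom] [IsProper B.hom]
    [GeometricallyIntegral B.hom] [Surjective f.left] (T : Over (Spec (CommRingCat.of k))) :
    Flat (f ▷ T).left ∧ Surjective (f ▷ T).left ∧ QuasiCompact (f ▷ T).left := by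
  haveI : LocallyOfFinitePresentation A.hom := inferInstance
  haveI : Flat A.hom := inferInstance
  haveI hfl : Flat f.left := (Groth.GrpschAbsch.FibreFlat.flat_of_surjective f).1
  haveI : QuasiCompact (f.left ≫ B.hom) := by rw [Over.w]; infer_instance
  haveI hqc : QuasiCompact f.left := QuasiCompact.of_comp f.left B.hom
  have sqB : IsPullback (fst B T).left (snd B T).left B.hom T.hom := IsPullback.of_hasPullback B.hom T.hom
  have sqA : IsPullback (fst A T).left (snd A T).left A.hom T.hom := IsPullback.of_hasPullback A.hom T.hom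
  have sq : IsPullback (fst A T).left (f ▷ T).left f.left (fst B T).left := by
    refine IsPullback.of_bot ?_ ?_ sqB
    · rw [← Over.comp_left, whiskerRight_snd, Over.w]
      exact sqA
    · exact (whiskerRight_proj T).symm
  exact ⟨MorphismProperty.of_isPullback sq hfl, MorphismProperty.of_isPullback sq ‹_›,
    MorphismProperty.of_isPullback sq hqc⟩

variable (ρ : OverArrow f L M) {N : Over (Spec (CommRingCat.of k))} [GrpObj N] {i : N ⟶ A}

/-- Commuting with the canonical points over the kernel, after any base change. -/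
def CommKer (i : N ⟶ A) {T : Over (Spec (CommRingCat.of k))} (c : thetaPts A L T) : Prop :=
  ∀ (T' : Over (Spec (CommRingCat.of k))) (t : T' ⟶ T) (m : T' ⟶ N) (ct cn : thetaPts A L T'),
    ThetaGrp.IsBaseChange ct t c → IsPullPt ρ cn 1 → IsOverPt cn (m ≫ i) → ct * cn = cn * ct

theorem CommKer.inv {T : Over (Spec (CommRingCat.of k))} {c : thetaPts A L T} (h : CommKer ρ i c) :
    CommKer ρ i c⁻¹ := by
  intro T' t m ct cn hct hcn hm
  obtain ⟨d, hd, -⟩ := existsUnique_baseChange t c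
  obtain ⟨e, -, he⟩ := existsUnique_baseChange (L := L) t (1 : thetaPts A L T)
  have h1 : ct * d = 1 := by
    have := isBaseChange_mul hct hd
    rw [inv_mul_cancel] at this
    exact (he _ this).trans (he _ (isBaseChange_one t)).symm
  rw [eq_inv_of_mul_eq_one_left h1]
  exact Commute.inv_left (h T' t m d cn hd hcn hm)

theorem comp_eq_comp (hN : AlgGrp.IsKernel i f) {T : Over (Spec (CommRingCat.of k))} {c : thetaPts A L T}
    (h : CommKer ρ i c) (W : MObj.{u}) (ρ₁ ρ₂ : W ⟶ thetaObj A L T)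
    (e : ρ₁ ≫ arrowT ρ T = ρ₂ ≫ arrowT ρ T) :
    ρ₁ ≫ c.1.hom ≫ arrowT ρ T = ρ₂ ≫ c.1.hom ≫ arrowT ρ T := by
  have eb : ρ₁.base ≫ (f ▷ T).left = ρ₂.base ≫ (f ▷ T).left := by
    rw [← arrowT_base ρ T]
    exact congrArg CoGrothendieck.Hom.base e
  let Y : Over (Spec (CommRingCat.of k)) := Over.mk (ρ₁.base ≫ (A ⊗ T).hom)
  let a₁ : Y ⟶ A ⊗ T := Over.homMk ρ₁.base rfl
  let a₂ : Y ⟶ A ⊗ T := Over.homMk ρ₂.base (by
    change ρ₂.base ≫ (A ⊗ T).hom = ρ₁.base ≫ (A ⊗ T).hom
    rw [← Over.w (f ▷ T), ← Category.assoc, ← eb, Category.assoc])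
  have ea : a₁ ≫ (f ▷ T) = a₂ ≫ (f ▷ T) := Over.OverMorphism.ext eb
  let t : Y ⟶ T := a₁ ≫ snd A T
  have ht : t = a₂ ≫ snd A T := by
    have := congrArg (fun z => z ≫ snd B T) ea
    simpa [Category.assoc] using this
  have hp : (a₁ ≫ fst A T) ≫ f = (a₂ ≫ fst A T) ≫ f := by
    have := congrArg (fun z => z ≫ fst B T) ea
    simpa [Category.assoc] using this
  let m : Y ⟶ N := hN.lift ((a₁ ≫ fst A T)⁻¹ * (a₂ ≫ fst A T)) (toUnit Y) (by
    rw [MonObj.mul_comp, GrpObj.inv_comp, hp, inv_mul_cancel]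
    rfl)
  have hm : m ≫ i = (a₁ ≫ fst A T)⁻¹ * (a₂ ≫ fst A T) := hN.lift_fst _ _ _
  let σ : Y ⟶ A ⊗ Y := lift (a₁ ≫ fst A T) (𝟙 Y)
  have hσ₁ : σ ≫ (A ◁ t) = a₁ := by
    apply CartesianMonoidalCategory.hom_ext
    · simp [σ]
    · simp [σ, t]
  have hσ₂ : σ ≫ transl A (m ≫ i) ≫ (A ◁ t) = a₂ := by
    apply CartesianMonoidalCategory.hom_ext
    · simp only [σ, Category.assoc, whiskerLeft_fst, transl_fst, MonObj.comp_mul, lift_fst,
        lift_snd_assoc, Category.id_comp, hm, mul_inv_cancel_left]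
    · simp only [σ, Category.assoc, whiskerLeft_snd]
      rw [← Category.assoc (transl A _), transl_snd, lift_snd_assoc, Category.id_comp]
      exact ht
  obtain ⟨κ, ⟨hκb, hκ⟩, -⟩ := existsUnique_lift (P := thetaObj A L Y) ρ₁ (bcLift A L t) σ.left
    (congrArg CommaMorphism.left hσ₁)
  have hif : (m ≫ i) ≫ f = 1 := by
    rw [Category.assoc, hN.w, ← Category.assoc, toUnit_unique (m ≫ toUnit N) (toUnit Y), Hom.one_def]
  obtain ⟨cn, hcn, hon⟩ := exists_canPt ρ hif
  obtain ⟨ct, hct, -⟩ := existsUnique_baseChange t c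
  have hcn' : cn.1.hom ≫ arrowT ρ Y = arrowT ρ Y := hcn.trans (Category.comp_id _)
  have hc2 : κ ≫ cn.1.hom ≫ bcLift A L t = ρ₂ := by
    refine cart_hom_ext (arrowT ρ T) ?_ ?_
    · change κ.base ≫ cn.1.hom.base ≫ (A ◁ t).left = ρ₂.base
      rw [hκb, hon]
      exact congrArg CommaMorphism.left hσ₂
    · rw [Category.assoc, Category.assoc, arrowT_bc, ← Category.assoc cn.1.hom, hcn', ← arrowT_bc,
        ← Category.assoc, hκ, e]
  have hcc := (commute_iff_hom ct cn).1 (h Y t m ct cn hct hcn hon)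
  unfold ThetaGrp.IsBaseChange at hct
  rw [← hκ, ← hc2]
  simp only [Category.assoc]
  rw [← Category.assoc (bcLift A L t), ← hct, Category.assoc, arrowT_bc]
  conv_rhs => rw [← Category.assoc cn.1.hom, hcc, Category.assoc, ← Category.assoc cn.1.hom, hcn']

variable [IsProper A.hom] [GeometricallyIntegral A.hom] [IsProper B.hom] [GeometricallyIntegral B.hom]
  [Surjective f.left]

theorem exists_desc_arrow (hN : AlgGrp.IsKernel i f) (hM : PicF.IsInvertible M)
    {T : Over (Spec (CommRingCat.of k))} {c : thetaPts A L T} {x : T ⟶ A} (hx : IsOverPt c x)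
    (h : CommKer ρ i c) :
    ∃ Φ : thetaObj B M T ⟶ thetaObj B M T,
      Φ.base = (transl B (x ≫ f)).left ∧ arrowT ρ T ≫ Φ = c.1.hom ≫ arrowT ρ T := by
  obtain ⟨h₁, h₂, h₃⟩ := sfq_whiskerRight (f := f) T
  haveI : Flat (arrowT ρ T).base := (arrowT_base ρ T).symm ▸ h₁
  haveI : Surjective (arrowT ρ T).base := (arrowT_base ρ T).symm ▸ h₂
  haveI : QuasiCompact (arrowT ρ T).base := (arrowT_base ρ T).symm ▸ h₃
  refine exists_desc (arrowT ρ T) (isInvertible_obj hM T) _ _ ?_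
    fun W ρ₁ ρ₂ _ _ e => comp_eq_comp ρ hN h W ρ₁ ρ₂ e
  change c.1.hom.base ≫ (arrowT ρ T).base = (arrowT ρ T).base ≫ (transl B (x ≫ f)).left
  rw [hx, arrowT_base, ← Over.comp_left, transl_whiskerRight, Over.comp_left]

theorem exists_pushPt (hN : AlgGrp.IsKernel i f) (hM : PicF.IsInvertible M)
    {T : Over (Spec (CommRingCat.of k))} {c : thetaPts A L T} {x : T ⟶ A} (hx : IsOverPt c x)
    (h : CommKer ρ i c) : ∃ b : thetaPts B M T, IsOverPt b (x ≫ f) := by
  obtain ⟨Φ, hΦb, hΦ⟩ := exists_desc_arrow ρ hN hM hx h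
  have hx' : IsOverPt c⁻¹ x⁻¹ := by
    obtain ⟨y, hy⟩ := exists_isOverPt c⁻¹
    have h1 := isOverPt_mul hx hy
    rw [mul_inv_cancel] at h1
    exact eq_inv_of_mul_eq_one_left (isOverPt_unique h1 (isOverPt_one T)) ▸ hy
  obtain ⟨Ψ, hΨb, hΨ⟩ := exists_desc_arrow ρ hN hM hx' (CommKer.inv ρ h)
  obtain ⟨h₁, h₂, h₃⟩ := sfq_whiskerRight (f := f) T
  haveI : Flat (arrowT ρ T).base := (arrowT_base ρ T).symm ▸ h₁
  haveI : Surjective (arrowT ρ T).base := (arrowT_base ρ T).symm ▸ h₂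
  haveI : QuasiCompact (arrowT ρ T).base := (arrowT_base ρ T).symm ▸ h₃
  have hb : ∀ y z : T ⟶ B, y * z = 1 → (transl B y).left ≫ (transl B z).left = 𝟙 _ := fun y z e => by
    rw [← Over.comp_left, ← transl_mul, e, transl_one]; rfl
  haveI : IsIso Φ := by
    refine ⟨Ψ, eq_of_comp_eq (arrowT ρ T) (isInvertible_obj hM T) ?_ ?_,
      eq_of_comp_eq (arrowT ρ T) (isInvertible_obj hM T) ?_ ?_⟩
    · change Φ.base ≫ Ψ.base = 𝟙 _
      rw [hΦb, hΨb]
      exact hb _ _ (by rw [← MonObj.mul_comp, mul_inv_cancel, MonObj.one_comp])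
    · rw [← Category.assoc, hΦ, Category.assoc, hΨ, ← Category.assoc, Category.comp_id]
      change (c.1.hom ≫ c.1.inv) ≫ _ = _
      rw [Iso.hom_inv_id, Category.id_comp]
    · change Ψ.base ≫ Φ.base = 𝟙 _
      rw [hΦb, hΨb]
      exact hb _ _ (by rw [← MonObj.mul_comp, inv_mul_cancel, MonObj.one_comp])
    · rw [← Category.assoc, hΨ, Category.assoc, hΦ, ← Category.assoc, Category.comp_id]
      change (c.1.inv ≫ c.1.hom) ≫ _ = _
      rw [Iso.inv_hom_id, Category.id_comp]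
  obtain ⟨b, -, hb'⟩ := exists_pt Φ (x ≫ f) hΦb
  exact ⟨b, hb'⟩

end Groth.ThetaAlg

namespace Groth.ThetaAlg

variable {k : Type u} [Field k] {A B : Over (Spec (CommRingCat.of k))} [GrpObj A] [GrpObj B]
  [IsProper A.hom] [GeometricallyIntegral A.hom] [IsProper B.hom] [GeometricallyIntegral B.hom]
  [IsCommMonObj A] {f : A ⟶ B} [IsMonHom f] {L : A.left.Modules} {M : B.left.Modules} (ρ : OverArrow f L M)
  {N : Over (Spec (CommRingCat.of k))} [GrpObj N] {i : N ⟶ A}
  {KM : Over (Spec (CommRingCat.of k))} {iM : KM ⟶ B}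

include ρ in
theorem commute_of_factors (hL : PicF.IsInvertible L) (hM : PicF.IsInvertible M) (hK : IsKL B M iM)
    (hif : i ≫ f = 1) {T : Over (Spec (CommRingCat.of k))} {x : T ⟶ A} (hx : ∃ y : T ⟶ KM, y ≫ iM = x ≫ f)
    (n : T ⟶ N) {c₁ c₂ : thetaPts A L T} (h₁ : IsOverPt c₁ x) (h₂ : IsOverPt c₂ (n ≫ i)) :
    c₁ * c₂ = c₂ * c₁ := by
  obtain ⟨U, hU, hlift⟩ := exists_cover_lifts hM hK (x ≫ f) (x ≫ f) hx hx
  refine commute_of_cover (sndBij_of_proper A) hL c₁ c₂ U hU fun t a₁ a₂ ha₁ ha₂ => ?_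
  obtain ⟨⟨b, hb⟩, -⟩ := hlift t
  set g := opIn T (U t) with hg
  have hb' : IsOverPt b ((g ≫ x) ≫ f) := (Category.assoc g x f).symm ▸ hb
  obtain ⟨c, hc, hco⟩ := exists_pullPt ρ hb'
  obtain ⟨cn, hcn, hno⟩ := exists_canPt ρ (n := (g ≫ n) ≫ i) (by rw [Category.assoc, hif, MonObj.comp_one])
  refine commute_of_isOverPt (sndBij_of_proper A) hL hco hno (isOverPt_baseChange ha₁ h₁)
    ((Category.assoc g n i).symm ▸ isOverPt_baseChange ha₂ h₂) ?_
  exact commute_of_pullPt ρ hc hcn hco hno ((_root_.mul_one b).trans (_root_.one_mul b).symm)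

include ρ in
theorem factors_pullback_of_factors (hL : PicF.IsInvertible L) (hM : PicF.IsInvertible M) (hK : IsKL B M iM)
    {KL : Over (Spec (CommRingCat.of k))} {iL : KL ⟶ A} (hKL : IsKL A L iL)
    {T : Over (Spec (CommRingCat.of k))} {x : T ⟶ A} (hx : ∃ y : T ⟶ KM, y ≫ iM = x ≫ f) :
    ∃ y : T ⟶ KL, y ≫ iL = x := by
  refine (factors_iff_locally hL hKL x).2 fun t => ?_
  obtain ⟨U, htU, b, hb⟩ := (factors_iff_locally hM hK (x ≫ f)).1 hx t
  have hb' : IsOverPt b ((opIn T U ≫ x) ≫ f) := (Category.assoc _ x f).symm ▸ hb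
  obtain ⟨c, -, hc⟩ := exists_pullPt ρ hb'
  exact ⟨U, htU, c, hc⟩

end Groth.ThetaAlg
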