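import Mathlib
import Groth.Agent.ThetaAlg.Level
import Groth.Agent.ThetaAlg.ActDatum
import Groth.Agent.ThetaAlg.DescLF

/-!
A homomorphic lift of the kernel to the theta group descends the module.
-/

set_option autoImplicit false

universe u

open CategoryTheory CategoryTheory.Limits MonoidalCategory CartesianMonoidalCategory MonObj GrpObj
open AlgebraicGeometry ThetaGrp
open Pseudofunctor Bicategory

noncomputable section

namespace Groth.ThetaAlg

variable {S : Scheme.{u}} {A B N G : Over S} [GrpObj A] [GrpObj B] [GrpObj N] [GrpObj G]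
  {f : A ⟶ B} [IsMonHom f] {i : N ⟶ A} {L : A.left.Modules} {u : thetaPts A L G}

/-- A homomorphism from the kernel into the theta group, over the inclusion. -/
structure KerLift (f : A ⟶ B) (i : N ⟶ A) (u : thetaPts A L G) where
  /-- the homomorphism -/
  j : N ⟶ G
  hN : AlgGrp.IsKernel i f
  hi : IsMonHom i
  hj : IsMonHom j
  hG : IsThetaGrpSch A L G u
  over' : ∀ (T : Over S) (n : T ⟶ N) (β : thetaPts A L T),
    ThetaGrp.IsBaseChange β (n ≫ j) u → IsOverPt β (n ≫ i)

variable (D : KerLift f i u)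

/-- The point of the theta group attached to a point of the kernel. -/
def KerLift.pt {Y : Over S} (m : Y ⟶ N) : thetaPts A L Y := (D.hG.exists_bc Y (m ≫ D.j)).choose

theorem KerLift.pt_spec {Y : Over S} (m : Y ⟶ N) : ThetaGrp.IsBaseChange (D.pt m) (m ≫ D.j) u :=
  (D.hG.exists_bc Y (m ≫ D.j)).choose_spec.1

theorem KerLift.pt_over {Y : Over S} (m : Y ⟶ N) : IsOverPt (D.pt m) (m ≫ i) := D.over' Y m _ (D.pt_spec m)

theorem KerLift.pt_eq {Y : Over S} (m : Y ⟶ N) {β : thetaPts A L Y} (h : ThetaGrp.IsBaseChange β (m ≫ D.j) u) :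
    β = D.pt m := (D.hG.exists_bc Y (m ≫ D.j)).unique h (D.pt_spec m)

theorem KerLift.pt_mul {Y : Over S} (m m' : Y ⟶ N) : D.pt m * D.pt m' = D.pt (m * m') := by
  haveI := D.hj
  refine D.pt_eq (m * m') ?_
  rw [MonObj.mul_comp]
  exact D.hG.mul Y _ _ _ _ (D.pt_spec m) (D.pt_spec m')

theorem KerLift.pt_one (Y : Over S) : D.pt (1 : Y ⟶ N) = 1 := by
  have h := D.pt_mul (1 : Y ⟶ N) 1
  rw [_root_.one_mul] at h
  exact mul_eq_left.1 h

theorem KerLift.pt_comp {Y Y' : Over S} (t : Y' ⟶ Y) (m : Y ⟶ N) :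
    ThetaGrp.IsBaseChange (D.pt (t ≫ m)) t (D.pt m) := by
  obtain ⟨β, hβ, -⟩ := existsUnique_baseChange t (D.pt m)
  have h := isBaseChange_comp hβ (D.pt_spec m)
  rw [← Category.assoc] at h
  exact D.pt_eq (t ≫ m) h ▸ hβ

section

variable {W : MObj.{u}} (r : W ⟶ (⟨A.left, L⟩ : MObj.{u})) (g : W.base ⟶ A.left) (h : r.base ≫ f.left = g ≫ f.left)

/-- The source of an arrow as a scheme over the base. -/
abbrev srcOver : Over S := Over.mk (r.base ≫ A.hom)

/-- The canonical section. -/
abbrev srcPt : srcOver r ⟶ A := Over.homMk r.base rfl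

theorem exists_kappa : ∃ κ : W ⟶ thetaObj A L (srcOver r),
    κ.base = (lift (srcPt r) (𝟙 (srcOver r))).left ∧ κ ≫ proj A L (srcOver r) = r :=
  (existsUnique_lift r (proj A L (srcOver r)) (lift (srcPt r) (𝟙 (srcOver r))).left (by
    change (lift (srcPt r) (𝟙 (srcOver r))).left ≫ (fst A (srcOver r)).left = r.base
    rw [← Over.comp_left, lift_fst]; rfl)).exists

/-- The second arrow as a morphism over the base. -/
def tgtPt : srcOver r ⟶ A := Over.homMk g (by
  change g ≫ A.hom = r.base ≫ A.hom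
  rw [← Over.w f, ← Category.assoc, ← h, Category.assoc])

include D in
theorem KerLift.exists_m : ∃ m : srcOver r ⟶ N, m ≫ i = (srcPt r)⁻¹ * tgtPt r g h := by
  have hp : srcPt r ≫ f = tgtPt r g h ≫ f := Over.OverMorphism.ext h
  exact ⟨D.hN.lift ((srcPt r)⁻¹ * tgtPt r g h) (toUnit _) (by
    rw [MonObj.mul_comp, GrpObj.inv_comp, hp, inv_mul_cancel]; rfl), D.hN.lift_fst _ _ _⟩

/-- The moved arrow. -/
def KerLift.move : W ⟶ (⟨A.left, L⟩ : MObj.{u}) :=
  (exists_kappa r).choose ≫ (D.pt (D.exists_m r g h).choose).1.hom ≫ proj A L (srcOver r)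

theorem KerLift.move_base : (D.move r g h).base = g := by
  change (exists_kappa r).choose.base ≫ (D.pt (D.exists_m r g h).choose).1.hom.base ≫
    (fst A (srcOver r)).left = g
  rw [(exists_kappa r).choose_spec.1, D.pt_over, ← Over.comp_left, ← Over.comp_left, transl_fst, MonObj.comp_mul,
    lift_fst, lift_snd_assoc, Category.id_comp, (D.exists_m r g h).choose_spec, mul_inv_cancel_left]
  rfl

theorem KerLift.move_eq {Y : Over S} (κ : W ⟶ thetaObj A L Y) (m : Y ⟶ N) (hκ : κ ≫ proj A L Y = r)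
    (hg : (κ ≫ (D.pt m).1.hom ≫ proj A L Y).base = g) : D.move r g h = κ ≫ (D.pt m).1.hom ≫ proj A L Y := by
  obtain ⟨hκ₀b, hκ₀⟩ := (exists_kappa r).choose_spec
  have hb : κ.base ≫ (fst A Y).left = r.base := congrArg CoGrothendieck.Hom.base hκ
  let σ : srcOver r ⟶ A ⊗ Y := Over.homMk κ.base (by
    change κ.base ≫ (A ⊗ Y).hom = r.base ≫ A.hom
    rw [← Over.w (fst A Y), ← Category.assoc, hb])
  let t : srcOver r ⟶ Y := σ ≫ snd A Y
  have hσ : σ = lift (srcPt r) (𝟙 (srcOver r)) ≫ (A ◁ t) := by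
    apply CartesianMonoidalCategory.hom_ext
    · rw [Category.assoc, whiskerLeft_fst, lift_fst]
      exact Over.OverMorphism.ext hb
    · rw [Category.assoc, whiskerLeft_snd, lift_snd_assoc, Category.id_comp]
  have hκeq : (exists_kappa r).choose ≫ bcLift A L t = κ := by
    refine cart_hom_ext (proj A L Y) ?_ ?_
    · change (exists_kappa r).choose.base ≫ (A ◁ t).left = κ.base
      rw [hκ₀b]
      exact (congrArg CommaMorphism.left hσ).symm
    · rw [Category.assoc, bcLift_proj, hκ₀, hκ]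
  have hm : (D.exists_m r g h).choose = t ≫ m := by
    haveI := D.hi
    refine D.hN.hom_ext ?_ (toUnit_unique _ _)
    have e : σ ≫ transl A (m ≫ i) ≫ fst A Y = tgtPt r g h := by
      refine Over.OverMorphism.ext ?_
      have hg' : κ.base ≫ (D.pt m).1.hom.base ≫ (fst A Y).left = g := hg
      rw [D.pt_over] at hg'
      exact hg'
    rw [transl_fst, MonObj.comp_mul] at e
    have e1 : σ ≫ fst A Y = srcPt r := Over.OverMorphism.ext hb
    rw [e1] at e
    rw [(D.exists_m r g h).choose_spec, ← e, inv_mul_cancel_left, Category.assoc]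
    rfl
  have hpt := D.pt_comp t m
  rw [← hm] at hpt
  unfold ThetaGrp.IsBaseChange at hpt
  change (exists_kappa r).choose ≫ (D.pt (D.exists_m r g h).choose).1.hom ≫ proj A L (srcOver r) = _
  generalize (exists_kappa r).choose = κ₀ at hκeq ⊢
  generalize D.pt (D.exists_m r g h).choose = β at hpt ⊢
  rw [← bcLift_proj t, ← Category.assoc β.1.hom, hpt, ← hκeq]
  simp only [Category.assoc]

end

/-- The transport along the kernel pair of `f`. -/
def KerLift.transport : Transport f.left L where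
  T W r g h := D.move r g h
  base W r g h := D.move_base r g h
  self W r h := by
    obtain ⟨-, hκ⟩ := (exists_kappa r).choose_spec
    have h1 : (exists_kappa r).choose ≫ (D.pt (1 : srcOver r ⟶ N)).1.hom ≫ proj A L (srcOver r) = r := by
      rw [D.pt_one]
      exact (congrArg ((exists_kappa r).choose ≫ ·) (Category.id_comp _)).trans hκ
    exact (D.move_eq r r.base h _ _ hκ (congrArg CoGrothendieck.Hom.base h1)).trans h1
  trans W r g g' h h' h'' := by
    obtain ⟨hκb, hκ⟩ := (exists_kappa r).choose_spec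
    have hm := (D.exists_m r g h).choose_spec
    set κ := (exists_kappa r).choose with hκdef
    set m := (D.exists_m r g h).choose with hmdef
    obtain ⟨m', hm'⟩ : ∃ m' : srcOver r ⟶ N, m' ≫ i = (tgtPt r g h)⁻¹ * tgtPt r g' h'' := by
      have hp : tgtPt r g h ≫ f = tgtPt r g' h'' ≫ f := Over.OverMorphism.ext (h.symm.trans h'')
      exact ⟨D.hN.lift ((tgtPt r g h)⁻¹ * tgtPt r g' h'') (toUnit _) (by
        rw [MonObj.mul_comp, GrpObj.inv_comp, hp, inv_mul_cancel]; rfl), D.hN.lift_fst _ _ _⟩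
    have e0 : (κ ≫ (D.pt m).1.hom) ≫ proj A L (srcOver r) = D.move r g h := Category.assoc _ _ _
    have eb : ((κ ≫ (D.pt m).1.hom) ≫ (D.pt m').1.hom ≫ proj A L (srcOver r)).base = g' := by
      change (κ.base ≫ (D.pt m).1.hom.base) ≫ (D.pt m').1.hom.base ≫ (fst A (srcOver r)).left = g'
      rw [hκb, D.pt_over, D.pt_over, ← Over.comp_left, ← Over.comp_left, ← Over.comp_left, Category.assoc,
        ← Category.assoc (transl A _), ← transl_mul, transl_fst, MonObj.comp_mul, lift_fst, lift_snd_assoc,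
        Category.id_comp, hm, hm', _root_.mul_assoc, mul_inv_cancel_left, mul_inv_cancel_left]
      rfl
    change D.move (D.move r g h) g' h' = D.move r g' h''
    rw [D.move_eq (D.move r g h) g' h' (κ ≫ (D.pt m).1.hom) m' e0 eb]
    have e1 : (κ ≫ (D.pt m).1.hom) ≫ (D.pt m').1.hom ≫ proj A L (srcOver r) =
        κ ≫ (D.pt (m' * m)).1.hom ≫ proj A L (srcOver r) := by
      rw [← D.pt_mul, mul_hom]
      simp only [Category.assoc]
    rw [e1] at eb ⊢
    exact (D.move_eq r g' h'' κ (m' * m) hκ eb).symm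
  natural W W' H r g h h' := by
    obtain ⟨-, hκ⟩ := (exists_kappa r).choose_spec
    have hb : ((H ≫ (exists_kappa r).choose) ≫ (D.pt (D.exists_m r g h).choose).1.hom ≫
        proj A L (srcOver r)).base = H.base ≫ g := by
      rw [Category.assoc]
      exact congrArg (H.base ≫ ·) (D.move_base r g h)
    exact ((D.move_eq (H ≫ r) (H.base ≫ g) h' _ _ (by rw [Category.assoc, hκ]) hb).trans (Category.assoc _ _ _)).symm

end Groth.ThetaAlg

namespace Groth.ThetaAlg

variable {k : Type u} [Field k] {A B N G : Over (Spec (CommRingCat.of k))} [GrpObj A] [GrpObj B] [GrpObj N]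
  [GrpObj G] [IsProper A.hom] [GeometricallyIntegral A.hom] [IsProper B.hom] [GeometricallyIntegral B.hom]
  {f : A ⟶ B} [IsMonHom f] [Surjective f.left] {i : N ⟶ A} {L : A.left.Modules} {u : thetaPts A L G}

theorem sfq_left (f : A ⟶ B) [IsMonHom f] [Surjective f.left] : Flat f.left ∧ QuasiCompact f.left := by
  haveI : LocallyOfFinitePresentation A.hom := inferInstance
  haveI : Flat A.hom := inferInstance
  haveI : QuasiCompact (f.left ≫ B.hom) := by rw [Over.w]; infer_instance
  exact ⟨(Groth.GrpschAbsch.FibreFlat.flat_of_surjective f).1, QuasiCompact.of_comp f.left B.hom⟩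

theorem KerLift.exists_descent (D : KerLift f i u) (hL : PicF.IsInvertible L) :
    ∃ M : B.left.Modules, PicF.IsInvertible M ∧ Nonempty ((Scheme.Modules.pullback f.left).obj M ≅ L) := by
  obtain ⟨h₁, h₂⟩ := sfq_left f
  obtain ⟨M, hM, ⟨e⟩⟩ := D.transport.exists_descent (PicAux.isQCoh_of_isInvertible hL)
  haveI := hM
  refine ⟨M, Groth.LocFree.isInvertible_iff_ofRank_one.2
    (DescLF.isFinLocFreeOfRank_of_pullback f.left M 1
      (Groth.LocFree.isFinLocFreeOfRank_of_iso e.symm (Groth.LocFree.isInvertible_iff_ofRank_one.1 hL))), ⟨e⟩⟩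

end Groth.ThetaAlg
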